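import Cfsg.Agent.Lib.TableRelax.Mono.Triple

/-!
Coordinate lemmas for the engine: signs and permutations, the two standard frames, and the descent
on the support once a coordinate triple is transitive.
-/

set_option autoImplicit false

namespace Cfsg.Agent.TableRelax.Mono

open Matrix

variable {F : Type*} [Field F] {n : ℕ}

/-- The support of a vector. -/
noncomputable def supp (y : Fin n → F) : Finset (Fin n) := by
  classical exact Finset.univ.filter fun i => y i ≠ 0

theorem mem_supp {y : Fin n → F} {i : Fin n} : i ∈ supp y ↔ y i ≠ 0 := by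
  classical simp [supp]

theorem not_mem_supp {y : Fin n → F} {i : Fin n} : i ∉ supp y ↔ y i = 0 := by
  classical simp [supp]

theorem sum_supp (y : Fin n → F) : ∑ i ∈ supp y, y i * y i = y ⬝ᵥ y :=
  Finset.sum_subset (Finset.subset_univ _) fun i _ hi => by rw [not_mem_supp.mp hi, mul_zero]

theorem exists_fresh (S : Finset (Fin n)) (h : S.card < n) : ∃ i, i ∉ S := by
  obtain ⟨i, -, hi⟩ := Finset.exists_mem_notMem_of_card_lt_card (s := S) (t := Finset.univ)
    (by rw [Finset.card_univ, Fintype.card_fin]; exact h)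
  exact ⟨i, hi⟩

theorem exists_even_map {k : ℕ} (f g : Fin k → Fin n) (hf : Function.Injective f)
    (hg : Function.Injective g) (hk : k + 2 ≤ n) :
    ∃ σ : Equiv.Perm (Fin n), Equiv.Perm.sign σ = 1 ∧ ∀ i, σ (f i) = g i := by
  classical
  obtain ⟨σ, hσ⟩ := Equiv.Perm.exists_extending_pair f g hf hg
  rcases Int.units_eq_one_or (Equiv.Perm.sign σ) with h | h
  · exact ⟨σ, h, hσ⟩
  have hc : (Finset.univ.image g).card = k := by
    rw [Finset.card_image_of_injective _ hg, Finset.card_univ, Fintype.card_fin]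
  obtain ⟨u, hu⟩ := exists_fresh (Finset.univ.image g) (by omega)
  obtain ⟨v, hv⟩ := exists_fresh (insert u (Finset.univ.image g))
    (by have := Finset.card_insert_le u (Finset.univ.image g); omega)
  simp only [Finset.mem_insert, Finset.mem_image, Finset.mem_univ, true_and, not_or, not_exists]
    at hu hv
  refine ⟨Equiv.swap u v * σ, ?_, fun i => ?_⟩
  · rw [map_mul, Equiv.Perm.sign_swap (Ne.symm hv.1), h]; rfl
  · rw [Equiv.Perm.mul_apply, hσ, Equiv.swap_apply_of_ne_of_ne (hu i) (hv.2 i)]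

theorem R_e_apply (i : Fin n) (w : Fin n → F) (j : Fin n) :
    R (e i) w j = if j = i then -w i else w j := by
  rw [R_unit (e_dot_self i), e_dot, Pi.sub_apply, Pi.smul_apply, smul_eq_mul]
  by_cases h : j = i
  · subst h; rw [if_pos rfl, e_same]; ring
  · rw [if_neg h, e_ne h, mul_zero, sub_zero]

theorem P_symm_P (σ : Equiv.Perm (Fin n)) (x : Fin n → F) : P σ (P σ.symm x) = x := by
  ext i
  rw [P_apply, P_apply, Equiv.symm_symm, Equiv.apply_symm_apply]

namespace Ctx

variable {L : Subgroup ((Fin n → F) ≃ₗ[F] (Fin n → F))} (h : Ctx L)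

include h

theorem inY_of_sq {v w : Fin n → F} (hw : InY L w) (hsq : ∀ i, v i * v i = w i * w i) :
    InY L v := by
  classical
  induction hm : (Finset.univ.filter fun i => v i ≠ w i).card generalizing w with
  | zero =>
    rw [Finset.card_eq_zero, Finset.filter_eq_empty_iff] at hm
    have : v = w := funext fun i => by simpa using hm (Finset.mem_univ i)
    rwa [this]
  | succ m ih =>
    obtain ⟨i, hi⟩ := Finset.card_pos.mp (by omega :
      0 < (Finset.univ.filter fun i => v i ≠ w i).card)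
    have hne := (Finset.mem_filter.mp hi).2
    have hneg := (mul_self_eq_mul_self_iff.mp (hsq i)).resolve_left hne
    refine ih (h.inY_flip hw i) (fun j => ?_) ?_
    · rw [R_e_apply]
      split_ifs with hj
      · subst hj; rw [hneg]
      · exact hsq j
    · have : (Finset.univ.filter fun j => v j ≠ R (e i) w j) =
          (Finset.univ.filter fun j => v j ≠ w j).erase i := by
        ext j
        by_cases hj : j = i
        · subst hj; simp [R_e_apply, hneg]
        · simp [R_e_apply, hj]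
      rw [this, Finset.card_erase_of_mem hi, hm]
      omega

theorem inY_perm_sq {σ : Equiv.Perm (Fin n)} (hσ : Equiv.Perm.sign σ = 1) {v w : Fin n → F}
    (hw : InY L w) (hsq : ∀ i, v (σ i) * v (σ i) = w i * w i) : InY L v :=
  h.inY_of_sq (h.inY_perm hσ hw) fun j => by
    rw [P_apply]; simpa using hsq (σ.symm j)

/-- Exchanging a coordinate with a zero one. -/
theorem inY_swap {y : Fin n → F} (hy : InY L y) {a b b' d : Fin n} (hd : y d = 0) (had : a ≠ d)
    (hbb : b ≠ b') (hba : b ≠ a) (hbd : b ≠ d) (hba' : b' ≠ a) (hbd' : b' ≠ d)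
    (hsq : y b * y b = y b' * y b') : InY L (y - y a • e a + y a • e d) := by
  refine h.inY_perm_sq (σ := Equiv.swap a d * Equiv.swap b b') ?_ hy fun i => ?_
  · rw [map_mul, Equiv.Perm.sign_swap had, Equiv.Perm.sign_swap hbb]; rfl
  simp only [Equiv.Perm.mul_apply, Pi.add_apply, Pi.sub_apply, Pi.smul_apply, smul_eq_mul]
  by_cases h1 : i = a
  · subst h1
    rw [Equiv.swap_apply_of_ne_of_ne (Ne.symm hba) (Ne.symm hba'), Equiv.swap_apply_left, hd,
      e_same, e_ne (Ne.symm had)]
    ring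
  by_cases h3 : i = d
  · subst h3
    rw [Equiv.swap_apply_of_ne_of_ne (Ne.symm hbd) (Ne.symm hbd'), Equiv.swap_apply_right, hd,
      e_same, e_ne had]
    ring
  by_cases h5 : i = b
  · subst h5
    rw [Equiv.swap_apply_left, Equiv.swap_apply_of_ne_of_ne hba' hbd', e_ne hba', e_ne hbd']
    linear_combination -hsq
  by_cases h6 : i = b'
  · subst h6
    rw [Equiv.swap_apply_right, Equiv.swap_apply_of_ne_of_ne hba hbd, e_ne hba, e_ne hbd]
    linear_combination hsq
  rw [Equiv.swap_apply_of_ne_of_ne h5 h6, Equiv.swap_apply_of_ne_of_ne h1 h3, e_ne h1, e_ne h3]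
  ring

/-- ... which is possible as soon as the other squares take few values. -/
theorem inY_swap_of_values {y : Fin n → F} (hy : InY L y) {a d : Fin n} (hd : y d = 0)
    (had : a ≠ d) (V : Finset F) (hV : V.card + 3 ≤ n)
    (hmem : ∀ i, i ≠ a → i ≠ d → y i * y i ∈ V) : InY L (y - y a • e a + y a • e d) := by
  classical
  have := h.dim
  have hc : (Finset.univ \ {a, d} : Finset (Fin n)).card = n - 2 := by
    rw [Finset.card_univ_diff, Fintype.card_fin, Finset.card_pair had]
  obtain ⟨b, hb, b', hb', hne, heq⟩ := Finset.exists_ne_map_eq_of_card_lt_of_maps_to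
    (s := (Finset.univ \ {a, d} : Finset (Fin n))) (t := V) (f := fun i => y i * y i)
    (by omega) (fun i hi => by
      obtain ⟨h1, h3⟩ : i ≠ a ∧ i ≠ d := by simpa using hi
      exact hmem i h1 h3)
  simp only [Finset.mem_sdiff, Finset.mem_univ, true_and, Finset.mem_insert, Finset.mem_singleton,
    not_or] at hb hb'
  exact h.inY_swap hy hd had hne hb.1 hb.2 hb'.1 hb'.2 heq

end Ctx

/-- The vector `R y (e a)`. -/
def turn (y : Fin n → F) (a : Fin n) : Fin n → F := e a - (2 * y a) • y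

theorem turn_self (y : Fin n → F) (a : Fin n) : turn y a a = 1 - 2 * (y a * y a) := by
  rw [turn, Pi.sub_apply, Pi.smul_apply, e_same, smul_eq_mul]; ring

theorem turn_other (y : Fin n → F) {a i : Fin n} (hi : i ≠ a) : turn y a i = -(2 * y a * y i) := by
  rw [turn, Pi.sub_apply, Pi.smul_apply, e_ne hi, smul_eq_mul]; ring

theorem Ctx.inY_turn {L : Subgroup ((Fin n → F) ≃ₗ[F] (Fin n → F))} (h : Ctx L) {y : Fin n → F}
    (hy : InY L y) (a : Fin n) : InY L (turn y a) := by
  have := h.inY_R (h.inY_e a) hy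
  rwa [R_unit hy.1, dot_e] at this

/-- The vector `R y' y` for the exchange `y'` of `y` at `a`, `d`. -/
def twist (y : Fin n → F) (a d : Fin n) : Fin n → F :=
  y - (2 * (1 - y a * y a)) • (y - y a • e a + y a • e d)

theorem Ctx.inY_twist {L : Subgroup ((Fin n → F) ≃ₗ[F] (Fin n → F))} (h : Ctx L) {y : Fin n → F}
    (hy : InY L y) {a d : Fin n} (hd : y d = 0) (hy' : InY L (y - y a • e a + y a • e d)) :
    InY L (twist y a d) := by
  have h1 := h.inY_R hy hy'
  rw [R_unit hy'.1] at h1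
  have e1 : (y - y a • e a + y a • e d) ⬝ᵥ y = 1 - y a * y a := by
    rw [add_dotProduct, sub_dotProduct, smul_dotProduct, smul_dotProduct, e_dot, e_dot, hy.1, hd,
      smul_eq_mul, smul_eq_mul]
    ring
  rwa [e1] at h1

theorem twist_self (y : Fin n → F) {a d : Fin n} (had : a ≠ d) : twist y a d a = y a := by
  simp [twist, e_same, e_ne had]

theorem twist_zero {y : Fin n → F} {a d : Fin n} (had : a ≠ d) (hd : y d = 0) :
    twist y a d d = -(2 * (1 - y a * y a) * y a) := by
  simp [twist, e_same, e_ne (Ne.symm had), hd]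

theorem twist_other (y : Fin n → F) {a d i : Fin n} (hia : i ≠ a) (hid : i ≠ d) :
    twist y a d i = (2 * (y a * y a) - 1) * y i := by
  simp [twist, e_ne hia, e_ne hid]
  ring

/-- The frame of `y`, `e a`, `e b`. -/
def frameA {y : Fin n → F} (hy : y ⬝ᵥ y = 1) {a b : Fin n} (hab : a ≠ b)
    (hρ : 1 - y a * y a - y b * y b ≠ 0) : Frame F n where
  f₁ := e a
  f₂ := e b
  f₃ := y - y a • e a - y b • e b
  ρ := 1 - y a * y a - y b * y b
  h₁ := e_dot_self a
  h₂ := e_dot_self b
  h₃ := by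
    simp only [sub_dotProduct, dotProduct_sub, smul_dotProduct, dotProduct_smul, e_dot, dot_e, hy,
      e_same, e_ne hab, e_ne (Ne.symm hab), Pi.sub_apply, Pi.smul_apply, smul_eq_mul]
    ring
  h₁₂ := e_dot_ne hab
  h₁₃ := by simp [e_dot, e_same, e_ne hab]
  h₂₃ := by simp [e_dot, e_same, e_ne (Ne.symm hab)]
  ρ_ne := hρ

/-- The frame of `y`, `e a`, `e d` for a zero coordinate `d`. -/
def frameB {y : Fin n → F} (hy : y ⬝ᵥ y = 1) {a d : Fin n} (had : a ≠ d) (hd : y d = 0)
    (hρ : 1 - y a * y a ≠ 0) : Frame F n where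
  f₁ := e a
  f₂ := e d
  f₃ := y - y a • e a
  ρ := 1 - y a * y a
  h₁ := e_dot_self a
  h₂ := e_dot_self d
  h₃ := by
    simp only [sub_dotProduct, dotProduct_sub, smul_dotProduct, dotProduct_smul, e_dot, dot_e, hy,
      e_same, Pi.sub_apply, Pi.smul_apply, smul_eq_mul]
    ring
  h₁₂ := e_dot_ne had
  h₁₃ := by simp [e_dot, e_same]
  h₂₃ := by simp [e_dot, e_ne (Ne.symm had), hd]
  ρ_ne := hρ

/-- Admissible values of the square of a trace. -/
def Good (s : F) : Prop := s = 4 ∨ (s ≠ 0 ∧ s ≠ 1 ∧ s ≠ 2 ∧ s * s - 3 * s + 1 ≠ 0)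

/-- Equal norms on three coordinates are exchanged. -/
def CoordTrans (L : Subgroup ((Fin n → F) ≃ₗ[F] (Fin n → F))) (a b c : Fin n) : Prop :=
  ∀ x x' : Fin n → F, (∀ i, i ≠ a → i ≠ b → i ≠ c → x i = 0) →
    (∀ i, i ≠ a → i ≠ b → i ≠ c → x' i = 0) → x ⬝ᵥ x ≠ 0 → x ⬝ᵥ x = x' ⬝ᵥ x' →
    ∃ g, YKeep L g ∧ (∀ w : Fin n → F, w a = 0 → w b = 0 → w c = 0 → g w = w) ∧ g x = x'

theorem coordTrans_of_frame {L : Subgroup ((Fin n → F) ≃ₗ[F] (Fin n → F))} {T : Frame F n}
    (hT : T.Transit L) {a b c : Fin n} (hab : a ≠ b) (hac : a ≠ c) (hbc : b ≠ c) {γ : F}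
    (hγ : γ ≠ 0) (h₁ : T.f₁ = e a) (h₂ : T.f₂ = e b) (h₃ : T.f₃ = γ • e c) :
    CoordTrans L a b c := by
  intro x x' hx hx' h0 heq
  have hι : ∀ z : Fin n → F, (∀ i, i ≠ a → i ≠ b → i ≠ c → z i = 0) →
      T.ι (z a, z b, z c / γ) = z := fun z hz => by
    ext i
    simp only [Frame.ι, h₁, h₂, h₃, Pi.add_apply, Pi.smul_apply, smul_eq_mul]
    by_cases h1 : i = a
    · subst h1; rw [e_same, e_ne hab, e_ne hac]; ring
    by_cases h4 : i = b
    · subst h4; rw [e_same, e_ne (Ne.symm hab), e_ne hbc]; ring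
    by_cases h5 : i = c
    · subst h5; rw [e_same, e_ne (Ne.symm hac), e_ne (Ne.symm hbc)]; field_simp; ring
    rw [e_ne h1, e_ne h4, e_ne h5, hz i h1 h4 h5]; ring
  have hq : ∀ z, (∀ i, i ≠ a → i ≠ b → i ≠ c → z i = 0) →
      Model.q T.ρ (z a, z b, z c / γ) (z a, z b, z c / γ) = z ⬝ᵥ z := fun z hz => by
    rw [← T.ι_dot, hι z hz]
  obtain ⟨g, hg, hgw, hgx⟩ := hT (x a, x b, x c / γ) (x' a, x' b, x' c / γ)
    (by rw [hq x hx]; exact h0) (by rw [hq x hx, hq x' hx', heq])
  rw [hι x hx, hι x' hx'] at hgx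
  refine ⟨g, hg, fun w wa wb wc => hgw w ⟨?_, ?_, ?_⟩, hgx⟩
  · rw [h₁, e_dot, wa]
  · rw [h₂, e_dot, wb]
  · rw [h₃, smul_dotProduct, e_dot, wc, smul_zero]

variable [Fintype F] {p : ℕ} [Fact p.Prime]

namespace Ctx

variable {L : Subgroup ((Fin n → F) ≃ₗ[F] (Fin n → F))} (h : Ctx L)
variable (hF : Fintype.card F = p) (hp2 : p ≠ 2)

include h hF hp2

/-- Transitivity in the frame of `y`, `e a`, `e b`. -/
theorem transit_A {y : Fin n → F} (hy : InY L y) {a b : Fin n} (hab : a ≠ b) (hb : y b ≠ 0)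
    (hg : Good (4 * (y a * y a))) (hρ : 1 - y a * y a - y b * y b ≠ 0)
    (hρ1 : 1 - y a * y a - y b * y b ≠ 1) : (frameA hy.1 hab hρ).Transit L := by
  have hu : (frameA hy.1 hab hρ).ι (y a, y b, 1) = y := by
    simp only [Frame.ι, frameA, one_smul]; abel
  have hv : (frameA hy.1 hab hρ).ι ((1, 0, 0) : F × F × F) = e a := by simp [Frame.ι, frameA]
  have hw : (frameA hy.1 hab hρ).ι ((0, 1, 0) : F × F × F) = e b := by simp [Frame.ι, frameA]
  refine Frame.transit_of_three _ h.two hF hp2 h (u := (y a, y b, 1)) (v := (1, 0, 0))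
    (w := (0, 1, 0)) (u' := (y a, y b, 1)) (v' := (1, 0, 0)) (w' := (0, 1, 0))
    (a := y a) (b := y b) (c := 0) (a' := y a) (b' := y b) (c' := 0)
    ?_ ?_ ?_ ?_ ?_ ?_ ?_ ?_ hb hg ⟨?_, ?_⟩
  · intro x hx
    simp only [List.mem_cons, List.not_mem_nil, or_false] at hx
    have e1 : Model.q (frameA hy.1 hab hρ).ρ (y a, y b, 1) (y a, y b, 1) = 1 := by
      simp only [Model.q, frameA]; ring
    rcases hx with rfl | rfl | rfl | rfl | rfl | rfl
    all_goals first
      | exact ⟨e1, by rw [hu]; exact hy⟩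
      | exact ⟨by simp [Model.q], by rw [hv]; exact h.inY_e a⟩
      | exact ⟨by simp [Model.q], by rw [hw]; exact h.inY_e b⟩
  all_goals try simp only [Model.q, frameA]
  any_goals ring
  · intro h0; exact hρ (by linear_combination h0)
  · intro h0; exact hρ (by linear_combination h0)
  · intro h0; exact hρ1 (by linear_combination h0)

/-- Transitivity in the frame of `y`, `e a`, `e d`. -/
theorem transit_B {y : Fin n → F} (hy : InY L y) {a d : Fin n} (had : a ≠ d) (hd : y d = 0)
    (hy' : InY L (y - y a • e a + y a • e d)) (ha : y a ≠ 0) (hρ : 1 - y a * y a ≠ 0)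
    (hg : Good (4 * (y a * y a)) ∨ Good (4 * ((1 - y a * y a) * (1 - y a * y a)))) :
    (frameB hy.1 had hd hρ).Transit L := by
  have hu : (frameB hy.1 had hd hρ).ι (y a, 0, 1) = y := by
    simp [Frame.ι, frameB]
  have hv : (frameB hy.1 had hd hρ).ι ((1, 0, 0) : F × F × F) = e a := by simp [Frame.ι, frameB]
  have hd' : (frameB hy.1 had hd hρ).ι ((0, 1, 0) : F × F × F) = e d := by simp [Frame.ι, frameB]
  have hw : (frameB hy.1 had hd hρ).ι ((0, y a, 1) : F × F × F) = y - y a • e a + y a • e d := by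
    simp only [Frame.ι, frameB, one_smul, zero_smul]; abel
  have hunit : ∀ x ∈ [((y a, 0, 1) : F × F × F), (1, 0, 0), (0, y a, 1), (0, 1, 0)],
      Model.q (frameB hy.1 had hd hρ).ρ x x = 1 ∧ InY L ((frameB hy.1 had hd hρ).ι x) := by
    intro x hx
    simp only [List.mem_cons, List.not_mem_nil, or_false] at hx
    rcases hx with rfl | rfl | rfl | rfl
    · exact ⟨by simp only [Model.q, frameB]; ring, by rw [hu]; exact hy⟩
    · exact ⟨by simp [Model.q], by rw [hv]; exact h.inY_e a⟩
    · exact ⟨by simp only [Model.q, frameB]; ring, by rw [hw]; exact hy'⟩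
    · exact ⟨by simp [Model.q], by rw [hd']; exact h.inY_e d⟩
  have hΔ : 1 - y a * y a - (1 - y a * y a) * (1 - y a * y a) ≠ 0 := fun h0 =>
    mul_ne_zero (mul_ne_zero ha ha) hρ (by linear_combination h0)
  have hρ1 : 1 - y a * y a ≠ 1 := fun h0 => mul_ne_zero ha ha (by linear_combination -h0)
  rcases hg with hg | hg
  · refine Frame.transit_of_three _ h.two hF hp2 h (u := (y a, 0, 1)) (v := (1, 0, 0))
      (w := (0, y a, 1)) (u' := (1, 0, 0)) (v' := (0, 1, 0)) (w' := (y a, 0, 1))
      (a := y a) (b := 1 - y a * y a) (c := 0) (a' := 0) (b' := y a) (c' := 0)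
      ?_ ?_ ?_ ?_ ?_ ?_ ?_ ?_ hρ hg ⟨?_, ?_⟩
    · intro x hx
      apply hunit
      simp only [List.mem_cons, List.not_mem_nil, or_false] at hx ⊢
      tauto
    all_goals try simp only [Model.q, frameB]
    any_goals ring
    · intro h0; exact hΔ (by linear_combination h0)
    · intro h0; exact hρ (by linear_combination h0)
    · intro h0; exact hρ1 (by linear_combination h0)
  · refine Frame.transit_of_three _ h.two hF hp2 h (u := (y a, 0, 1)) (v := (0, y a, 1))
      (w := (1, 0, 0)) (u' := (1, 0, 0)) (v' := (0, 1, 0)) (w' := (y a, 0, 1))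
      (a := 1 - y a * y a) (b := y a) (c := 0) (a' := 0) (b' := y a) (c' := 0)
      ?_ ?_ ?_ ?_ ?_ ?_ ?_ ?_ ha hg ⟨?_, ?_⟩
    · intro x hx
      apply hunit
      simp only [List.mem_cons, List.not_mem_nil, or_false] at hx ⊢
      tauto
    all_goals try simp only [Model.q, frameB]
    any_goals ring
    · intro h0; exact hΔ (by linear_combination h0)
    · intro h0; exact hρ (by linear_combination h0)
    · intro h0; exact hρ1 (by linear_combination h0)

/-- Units of the frame of `y`, `e a`, `e b`. -/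
theorem unit_A {y : Fin n → F} (hy : InY L y) {a b : Fin n} (hab : a ≠ b) (hb : y b ≠ 0)
    (hg : Good (4 * (y a * y a))) (hρ : 1 - y a * y a - y b * y b ≠ 0)
    (hρ1 : 1 - y a * y a - y b * y b ≠ 1) {α β γ : F}
    (hu : α * α + β * β + (1 - y a * y a - y b * y b) * (γ * γ) = 1) :
    InY L (α • e a + β • e b + γ • (y - y a • e a - y b • e b)) :=
  (h.transit_A hF hp2 hy hab hb hg hρ hρ1).unit (h.inY_e a)
    (x := (α, β, γ)) hu

/-- Units of the plane of `e a`, `e d`. -/
theorem unit_B {y : Fin n → F} (hy : InY L y) {a d : Fin n} (had : a ≠ d) (hd : y d = 0)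
    (hy' : InY L (y - y a • e a + y a • e d)) (ha : y a ≠ 0) (hρ : 1 - y a * y a ≠ 0)
    (hg : Good (4 * (y a * y a)) ∨ Good (4 * ((1 - y a * y a) * (1 - y a * y a)))) {α β : F}
    (hu : α * α + β * β = 1) : InY L (α • e a + β • e d) := by
  have := (h.transit_B hF hp2 hy had hd hy' ha hρ hg).unit (h.inY_e a) (x := (α, β, 0))
    (by simp only [Model.q, frameB]; linear_combination hu)
  simpa [Frame.ι, frameB] using this

omit hF hp2

/-- Transitivity moves to every triple. -/
theorem coordTrans_all {a b c : Fin n} (hab : a ≠ b) (hac : a ≠ c) (hbc : b ≠ c)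
    (hT : CoordTrans L a b c) {a' b' c' : Fin n} (hab' : a' ≠ b') (hac' : a' ≠ c')
    (hbc' : b' ≠ c') : CoordTrans L a' b' c' := by
  have := h.dim
  have hinj : ∀ {x y z : Fin n}, x ≠ y → x ≠ z → y ≠ z → Function.Injective ![x, y, z] := by
    intro x y z h1 h3 h5 i j hij
    fin_cases i <;> fin_cases j <;> simp_all
  obtain ⟨σ, hσ, hmap⟩ := exists_even_map ![a, b, c] ![a', b', c'] (hinj hab hac hbc)
    (hinj hab' hac' hbc') (by omega)
  have ha : σ a = a' := hmap 0
  have hb : σ b = b' := hmap 1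
  have hc : σ c = c' := hmap 2
  have hσ' : Equiv.Perm.sign σ.symm = 1 := by rw [Equiv.Perm.sign_symm, hσ]
  have hkeep : ∀ τ : Equiv.Perm (Fin n), Equiv.Perm.sign τ = 1 → Equiv.Perm.sign τ.symm = 1 →
      YKeep L (P τ) := fun τ hτ hτ' v => by
    refine ⟨fun hv => ?_, h.inY_perm hτ⟩
    have h1 := h.inY_perm hτ' hv
    have e1 : P τ.symm (P τ v) = v := by
      have := P_symm_P τ.symm v
      rwa [Equiv.symm_symm] at this
    rwa [e1] at h1
  intro x x' hx hx' h0 heq
  have hs : ∀ z : Fin n → F, (∀ i, i ≠ a' → i ≠ b' → i ≠ c' → z i = 0) →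
      ∀ i, i ≠ a → i ≠ b → i ≠ c → P σ.symm z i = 0 := fun z hz i h1 h3 h5 => by
    rw [P_apply, Equiv.symm_symm]
    exact hz _ (fun e1 => h1 (σ.injective (e1.trans ha.symm)))
      (fun e1 => h3 (σ.injective (e1.trans hb.symm))) (fun e1 => h5 (σ.injective (e1.trans hc.symm)))
  obtain ⟨g, hg, hgw, hgx⟩ := hT (P σ.symm x) (P σ.symm x') (hs x hx) (hs x' hx')
    (by rw [P_iso]; exact h0) (by rw [P_iso, P_iso]; exact heq)
  refine ⟨P σ * g * P σ.symm, ((hkeep σ hσ hσ').mul hg).mul (hkeep _ hσ' (by simpa using hσ)),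
    fun w wa wb wc => ?_, ?_⟩
  · rw [LinearEquiv.mul_apply, LinearEquiv.mul_apply, hgw _ ?_ ?_ ?_, P_symm_P] <;>
      rw [P_apply, Equiv.symm_symm]
    · rw [ha, wa]
    · rw [hb, wb]
    · rw [hc, wc]
  · rw [LinearEquiv.mul_apply, LinearEquiv.mul_apply, hgx, P_symm_P]

/-- **Descent**: one transitive triple gives all unit vectors. -/
theorem all_units_of_coordTrans (h3 : (3 : F) ≠ 0) {a₀ b₀ c₀ : Fin n} (hab : a₀ ≠ b₀)
    (hac : a₀ ≠ c₀) (hbc : b₀ ≠ c₀) (hT : CoordTrans L a₀ b₀ c₀) (v : Fin n → F)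
    (hv : v ⬝ᵥ v = 1) : InY L v := by
  classical
  have hn := h.dim
  induction hm : (supp v).card using Nat.strong_induction_on generalizing v with
  | _ m ih =>
  subst hm
  have hsum := (sum_supp v).trans hv
  rcases Nat.lt_or_ge (supp v).card 3 with hsmall | hbig
  · obtain ⟨a, ha⟩ : (supp v).Nonempty := by
      rw [Finset.nonempty_iff_ne_empty]
      intro h0; rw [h0, Finset.sum_empty] at hsum; exact zero_ne_one hsum
    have hc2 : ((supp v).erase a).card ≤ 1 := by rw [Finset.card_erase_of_mem ha]; omega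
    obtain ⟨b, hb, hbsub⟩ : ∃ b, b ≠ a ∧ ∀ i, i ≠ a → i ≠ b → v i = 0 := by
      obtain ⟨b₁, hb₁⟩ := exists_fresh ({a} : Finset (Fin n)) (by simp; omega)
      by_cases he : ((supp v).erase a).Nonempty
      · obtain ⟨b, hb⟩ := he
        refine ⟨b, Finset.ne_of_mem_erase hb, fun i hia hib => not_mem_supp.mp fun hi => hib ?_⟩
        exact Finset.card_le_one.mp hc2 i (Finset.mem_erase.mpr ⟨hia, hi⟩) b hb
      · refine ⟨b₁, by simpa using hb₁, fun i hia _ => not_mem_supp.mp fun hi =>
          he ⟨i, Finset.mem_erase.mpr ⟨hia, hi⟩⟩⟩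
    obtain ⟨c, hc⟩ := exists_fresh ({a, b} : Finset (Fin n))
      (lt_of_le_of_lt Finset.card_le_two (by omega))
    simp only [Finset.mem_insert, Finset.mem_singleton, not_or] at hc
    obtain ⟨g, hg, -, hgx⟩ := h.coordTrans_all hab hac hbc hT (Ne.symm hb) (Ne.symm hc.1)
      (Ne.symm hc.2) (e a) v (fun i h1 _ _ => e_ne h1) (fun i h1 h4 _ => hbsub i h1 h4)
      (by rw [e_dot_self]; exact one_ne_zero) (by rw [e_dot_self, hv])
    rw [← hgx]
    exact (hg _).mpr (h.inY_e a)
  · -- a triple inside the support with non-zero norm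
    obtain ⟨a, b, c, hab', hac', hbc', haS, hbS, hcS, hne⟩ : ∃ a b c, a ≠ b ∧ a ≠ c ∧ b ≠ c ∧
        a ∈ supp v ∧ b ∈ supp v ∧ c ∈ supp v ∧ v a * v a + v b * v b + v c * v c ≠ 0 := by
      obtain ⟨a, b, c, haS, hbS, hcS, hab', hac', hbc'⟩ :=
        Finset.two_lt_card_iff.mp (show 2 < (supp v).card by omega)
      by_cases h0 : v a * v a + v b * v b + v c * v c = 0
      swap
      · exact ⟨a, b, c, hab', hac', hbc', haS, hbS, hcS, h0⟩
      obtain ⟨d, hd, hda⟩ : ∃ d ∈ supp v, d ≠ a ∧ d ≠ b ∧ d ≠ c := by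
        by_contra hcon
        push Not at hcon
        have hS : supp v = {a, b, c} := by
          ext i
          simp only [Finset.mem_insert, Finset.mem_singleton]
          refine ⟨fun hi => ?_, ?_⟩
          · by_contra hno; push Not at hno; exact hno.2.2 (hcon i hi hno.1 hno.2.1)
          · rintro (rfl | rfl | rfl) <;> assumption
        rw [hS, Finset.sum_insert (by simp [hab', hac']), Finset.sum_pair hbc', ← add_assoc,
          h0] at hsum
        exact zero_ne_one hsum
      obtain ⟨hda, hdb, hdc⟩ := hda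
      by_cases h4 : v a * v a + v b * v b + v d * v d = 0
      swap
      · exact ⟨a, b, d, hab', Ne.symm hda, Ne.symm hdb, haS, hbS, hd, h4⟩
      by_cases h5 : v a * v a + v c * v c + v d * v d = 0
      swap
      · exact ⟨a, c, d, hac', Ne.symm hda, Ne.symm hdc, haS, hcS, hd, h5⟩
      refine ⟨b, c, d, hbc', Ne.symm hdb, Ne.symm hdc, hbS, hcS, hd, fun h6 => ?_⟩
      exact mul_ne_zero (mul_ne_zero (mem_supp.mp haS) (mem_supp.mp haS)) h3
        (by linear_combination h0 + h4 + h5 - 2 * h6)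
    obtain ⟨α, β, hαβ⟩ := exists_norm h.two (neg_ne_zero.mpr (one_ne_zero (α := F)))
      (v a * v a + v b * v b + v c * v c)
    set x : Fin n → F := v a • e a + v b • e b + v c • e c with hx
    set x' : Fin n → F := α • e a + β • e b with hx'
    set w := v - x with hw
    have hxs : ∀ i, i ≠ a → i ≠ b → i ≠ c → x i = 0 := fun i h1 h4 h5 => by
      simp [hx, e_ne h1, e_ne h4, e_ne h5]
    have hxs' : ∀ i, i ≠ a → i ≠ b → i ≠ c → x' i = 0 := fun i h1 h4 _ => by
      simp [hx', e_ne h1, e_ne h4]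
    have hwa : w a = 0 := by simp [hw, hx, e_same, e_ne hab', e_ne hac']
    have hwb : w b = 0 := by simp [hw, hx, e_same, e_ne (Ne.symm hab'), e_ne hbc']
    have hwc : w c = 0 := by simp [hw, hx, e_same, e_ne (Ne.symm hac'), e_ne (Ne.symm hbc')]
    have hxx : x ⬝ᵥ x = v a * v a + v b * v b + v c * v c := by
      simp [hx, add_dotProduct, smul_dotProduct, e_dot, e_same, e_ne hab', e_ne (Ne.symm hab'),
        e_ne hac', e_ne (Ne.symm hac'), e_ne hbc', e_ne (Ne.symm hbc')]
    have hxx' : x' ⬝ᵥ x' = v a * v a + v b * v b + v c * v c := by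
      simp [hx', add_dotProduct, smul_dotProduct, e_dot, e_same, e_ne hab', e_ne (Ne.symm hab')]
      linear_combination hαβ
    obtain ⟨g, hg, hgw, hgx⟩ := h.coordTrans_all hab hac hbc hT hab' hac' hbc' x' x hxs' hxs
      (by rw [hxx']; exact hne) (by rw [hxx, hxx'])
    have hgv : g (x' + w) = v := by
      rw [map_add, hgx, hgw w hwa hwb hwc, hw, add_sub_cancel]
    have hxw : x ⬝ᵥ w = 0 := by
      simp [hx, add_dotProduct, smul_dotProduct, e_dot, hwa, hwb, hwc]
    have hxw' : x' ⬝ᵥ w = 0 := by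
      simp [hx', add_dotProduct, smul_dotProduct, e_dot, hwa, hwb]
    have hunit : (x' + w) ⬝ᵥ (x' + w) = 1 := by
      have e1 : v = x + w := by rw [hw, add_sub_cancel]
      have hsq : ∀ a b : Fin n → F, (a + b) ⬝ᵥ (a + b) = a ⬝ᵥ a + 2 * (a ⬝ᵥ b) + b ⬝ᵥ b :=
        fun a b => by
          rw [add_dotProduct, dotProduct_add, dotProduct_add, dotProduct_comm b a]; ring
      rw [hsq, hxw', hxx', ← hxx, ← hxw, ← hsq, ← e1, hv]
    have hlt : (supp (x' + w)).card < (supp v).card := by
      refine lt_of_le_of_lt (Finset.card_le_card (fun i hi => ?_))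
        (Finset.card_erase_lt_of_mem hcS)
      rw [mem_supp, Pi.add_apply] at hi
      rw [Finset.mem_erase, mem_supp]
      by_cases hic : i = c
      · subst hic; exact absurd (by rw [hwc, add_zero]; simp [hx', e_ne (Ne.symm hac'),
          e_ne (Ne.symm hbc')]) hi
      refine ⟨hic, fun h0 => ?_⟩
      by_cases hia : i = a
      · subst hia; exact mem_supp.mp haS h0
      by_cases hib : i = b
      · subst hib; exact mem_supp.mp hbS h0
      apply hi
      simp [hw, hx, hx', h0, e_ne hia, e_ne hib, e_ne hic]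
    rw [← hgv]
    exact (hg _).mpr (ih _ hlt _ hunit rfl)

end Ctx

end Cfsg.Agent.TableRelax.Mono
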