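import Cfsg.Agent.Lib.TableRelax.Mono.Fusion

/-!
Frames of seven lines: if only monomial elements of the overgroup send some axis to an axis, every element
is monomial. The image `y` of an axis gives the involution `-R y`; its dihedral groups with the sign changes
on two axes have central involutions which are monomial, and these pin down all the coordinates of `y`.
-/

set_option autoImplicit false

namespace Cfsg.Agent.TableRelax.Mono

open Matrix

variable {F : Type*} [Field F] {n : ℕ}

/-- The negative of a reflection. -/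
def N (u : (Fin n → F)) : ((Fin n → F) ≃ₗ[F] (Fin n → F)) := LinearEquiv.neg F * R u

theorem N_apply (u v : (Fin n → F)) : N u v = -(R u v) := rfl

theorem N_self_mul (u : (Fin n → F)) : N u * N u = 1 := by
  apply LinearEquiv.ext
  intro v
  rw [LinearEquiv.mul_apply, N_apply, N_apply, map_neg, neg_neg, ← LinearEquiv.mul_apply, R_mul_self]

theorem N_conj {g : ((Fin n → F) ≃ₗ[F] (Fin n → F))} (hg : Iso g) (u : (Fin n → F)) :
    g * N u * g⁻¹ = N (g u) := by
  apply LinearEquiv.ext
  intro v
  have h1 := LinearEquiv.congr_fun (R_conj hg u) v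
  simp only [LinearEquiv.mul_apply] at h1 ⊢
  rw [N_apply, map_neg, h1, N_apply]

theorem flip_mul {S T : Finset (Fin n)} {ε δ : ((Fin n → F) ≃ₗ[F] (Fin n → F))} (hε : IsFlip S ε)
    (hδ : IsFlip T δ) (hd : ∀ i ∈ T, i ∉ S) : IsFlip (S ∪ T) (ε * δ) := by
  intro i
  rw [LinearEquiv.mul_apply, hδ i]
  by_cases hi : i ∈ T
  · rw [if_pos hi, map_neg, hε i, if_neg (hd i hi), if_pos (Finset.mem_union_right S hi)]
  · rw [if_neg hi, hε i]
    simp only [Finset.mem_union, hi, or_false]

/-- A monomial negated reflection has a mirror of support at most two. -/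
theorem supp_of_mono {u : (Fin n → F)} (h2 : (2 : F) ≠ 0) (hu : u ⬝ᵥ u ≠ 0) (hm : IsMono (N u))
    {i : Fin n} (hi : u i ≠ 0) :
    ∃ j, (∀ l, l ≠ i → l ≠ j → u l = 0) ∧ (j ≠ i → 1 = 2 * u i / (u ⬝ᵥ u) * u i) := by
  obtain ⟨j, t, hj⟩ := hm i
  have hcoef : 2 * u i / (u ⬝ᵥ u) ≠ 0 := div_ne_zero (mul_ne_zero h2 hi) hu
  have key : ∀ l, -(e (F := F) i l - 2 * u i / (u ⬝ᵥ u) * u l) = t * e (F := F) j l := fun l => by
    have h1 := congrFun hj l
    rw [N_apply, R_apply, dot_e] at h1
    simpa only [Pi.neg_apply, Pi.sub_apply, Pi.smul_apply, smul_eq_mul] using h1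
  refine ⟨j, fun l hli hlj => ?_, fun hji => ?_⟩
  · have h1 := key l
    rw [e_ne hli, e_ne hlj, mul_zero, zero_sub, neg_neg] at h1
    exact (mul_eq_zero.mp h1).resolve_left hcoef
  · have h1 := key i
    rw [e_same, e_ne (Ne.symm hji), mul_zero, neg_eq_zero, sub_eq_zero] at h1
    exact h1

/-- Seven values, not constant off one point, differ in at least seventeen ordered pairs. -/
theorem seventeen_le {α : Type*} [DecidableEq α] (x : Fin 7 → α)
    (hx : ∀ (c : Fin 7) (β : α), ¬ ∀ b, b ≠ c → x b = β) :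
    17 ≤ ∑ a, (Finset.univ.filter fun b => x a ≠ x b).card := by
  set d := fun a : Fin 7 => (Finset.univ.filter fun b => x a ≠ x b).card
  have two : ∀ a, 2 ≤ d a := fun a => by
    by_contra hlt
    obtain ⟨c, hc⟩ : ∃ c, ∀ b, b ≠ c → x a = x b := by
      rcases (Finset.univ.filter fun b => x a ≠ x b).eq_empty_or_nonempty with h0 | ⟨c, hc⟩
      · exact ⟨a, fun b _ => by_contra fun hb =>
          absurd (h0 ▸ Finset.mem_filter.mpr ⟨Finset.mem_univ b, hb⟩) (Finset.notMem_empty b)⟩
      · exact ⟨c, fun b hbc => by_contra fun hb => hbc (Finset.card_le_one.mp (by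
          simp only [d] at hlt
          omega) b (Finset.mem_filter.mpr ⟨Finset.mem_univ b, hb⟩) c hc)⟩
    exact hx c (x a) fun b hb => (hc b hb).symm
  obtain ⟨b, hb⟩ : ∃ b, x 0 ≠ x b := by
    by_contra h0
    push Not at h0
    exact hx 0 (x 0) fun b _ => (h0 b).symm
  have hsum : 7 ≤ d 0 + d b := by
    refine le_trans ?_ (Finset.card_union_le _ _)
    rw [show (Finset.univ.filter fun c => x 0 ≠ x c) ∪ (Finset.univ.filter fun c => x b ≠ x c) =
      Finset.univ from Finset.eq_univ_of_forall fun c => ?_, Finset.card_univ, Fintype.card_fin]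
    simp only [Finset.mem_union, Finset.mem_filter, Finset.mem_univ, true_and]
    by_cases h0 : x 0 = x c
    · exact Or.inr fun h1 => hb (h0.trans h1.symm)
    · exact Or.inl h0
  have h0b : (0 : Fin 7) ≠ b := fun h => hb (congrArg x h)
  have hmem : b ∈ (Finset.univ : Finset (Fin 7)).erase 0 :=
    Finset.mem_erase.mpr ⟨h0b.symm, Finset.mem_univ b⟩
  show 17 ≤ ∑ a, d a
  rw [← Finset.add_sum_erase _ _ (Finset.mem_univ (0 : Fin 7)), ← Finset.add_sum_erase _ _ hmem]
  have h5 := Finset.card_nsmul_le_sum (((Finset.univ : Finset (Fin 7)).erase 0).erase b) d 2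
    fun a _ => two a
  rw [Finset.card_erase_of_mem hmem, Finset.card_erase_of_mem (Finset.mem_univ _), Finset.card_univ,
    Fintype.card_fin, smul_eq_mul] at h5
  change _ ≤ ∑ a ∈ ((Finset.univ : Finset (Fin 7)).erase 0).erase b, d a at h5
  omega

variable [Fintype F] {p : ℕ} [Fact p.Prime]
variable {L : Subgroup ((Fin 7 → F) ≃ₗ[F] (Fin 7 → F))} (h : Ctx L) (hA : AxisRigid L)

local notation "V" => Fin 7 → F
local notation "GG" => (Fin 7 → F) ≃ₗ[F] (Fin 7 → F)

include h

/-- The negated coordinate reflections. -/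
theorem N_e_mem (k : Fin 7) : N (e k : V) ∈ L := by
  have hd : ∀ k : Fin 7, k + 1 ≠ k + 2 ∧ k + 3 ≠ k + 4 ∧ k + 5 ≠ k + 6 := by decide
  have hdis : ∀ k : Fin 7, (∀ i ∈ ({k + 3, k + 4} : Finset (Fin 7)), i ∉ ({k + 1, k + 2} : Finset (Fin 7))) ∧
      ∀ i ∈ ({k + 5, k + 6} : Finset (Fin 7)), i ∉ ({k + 1, k + 2} ∪ {k + 3, k + 4} : Finset (Fin 7)) := by
    decide
  have hcov : ∀ i k : Fin 7, (i ∈ ({k + 1, k + 2} ∪ {k + 3, k + 4} ∪ {k + 5, k + 6} : Finset (Fin 7))) ↔
      i ≠ k := by decide
  obtain ⟨h12, h34, h56⟩ := hd k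
  have hf := flip_mul (flip_mul (flip_pair h.two h12) (flip_pair h.two h34) (hdis k).1)
    (flip_pair h.two h56) (hdis k).2
  have he : (R (e (k + 1) : V) * R (e (k + 2)) * (R (e (k + 3)) * R (e (k + 4))) *
      (R (e (k + 5)) * R (e (k + 6)))) = N (e k : V) := by
    refine ext_e fun i => ?_
    rw [hf i, N_apply]
    by_cases hik : i = k
    · subst hik
      rw [if_neg fun hm => (hcov i i).mp hm rfl, R_self (by rw [e_dot_self]; exact one_ne_zero),
        neg_neg]
    · rw [if_pos ((hcov i k).mpr hik), R_of_ortho (e_dot_ne (Ne.symm hik))]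
  rw [← he]
  exact L.mul_mem (L.mul_mem (h.pair _ _) (h.pair _ _)) (h.pair _ _)

theorem N_image_mem {g : GG} (hg : g ∈ L) (k : Fin 7) : N (g (e k)) ∈ L := by
  rw [← N_conj (h.iso g hg)]
  exact L.mul_mem (L.mul_mem hg (N_e_mem h k)) (L.inv_mem hg)

/-- The central involution. -/
theorem exists_central_sign {ε f : GG} (hε : ε ∈ L) (hf : f ∈ L) (hε2 : ε * ε = 1) (hf2 : f * f = 1)
    {v : V} (hv : v ≠ 0) (hrv : ε (f v) = -v) :
    ∃ z ∈ L, z ≠ 1 ∧ z * z = 1 ∧ ε * z = z * ε ∧ f * z = z * f ∧
      ∃ s : F, (∀ w, ε (f w) = -w → z w = s • w) ∧ ∀ w, ε (f w) = w → z w = w := by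
  have : Finite GG := Finite.of_injective (fun g => (g : V → V)) DFunLike.coe_injective
  set r := ε * f with hr
  set m := orderOf r with hm
  have hm0 : 0 < m := orderOf_pos r
  have hneg : ∀ w, ε (f w) = -w → ∀ k : ℕ, (r ^ k) w = (-1 : F) ^ k • w := by
    intro w hw k
    induction k with
    | zero => simp
    | succ k ih =>
      rw [pow_succ, LinearEquiv.mul_apply, hr, LinearEquiv.mul_apply, hw, map_neg, ← hr, ih,
        pow_succ, mul_neg_one, neg_smul]
  have heven : Even m := by
    by_contra hodd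
    have h1 := hneg v hrv m
    rw [hm, pow_orderOf_eq_one, ← hm, (Nat.not_even_iff_odd.mp hodd).neg_one_pow, neg_one_smul,
      LinearEquiv.coe_one, id_eq] at h1
    refine hv ((smul_eq_zero.mp ?_).resolve_left h.two)
    rw [two_smul]
    exact eq_neg_iff_add_eq_zero.mp h1
  obtain ⟨q, hq⟩ := heven
  have hz2 : r ^ q * r ^ q = 1 := by rw [← pow_add, ← hq, hm, pow_orderOf_eq_one]
  have hinv : ε * r * ε⁻¹ = r⁻¹ := by
    rw [hr, _root_.mul_inv_rev, inv_eq_of_mul_eq_one_right hε2, inv_eq_of_mul_eq_one_right hf2,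
      ← mul_assoc, hε2, one_mul]
  have hzinv : (r ^ q)⁻¹ = r ^ q := inv_eq_of_mul_eq_one_right hz2
  have hcε : ε * r ^ q = r ^ q * ε := by
    calc ε * r ^ q = (ε * r * ε⁻¹) ^ q * ε := by rw [conj_pow, inv_mul_cancel_right]
      _ = r ^ q * ε := by rw [hinv, inv_pow, hzinv]
  have hfr : f = ε * r := by rw [hr, ← mul_assoc, hε2, one_mul]
  have hcf : f * r ^ q = r ^ q * f := by
    rw [hfr, mul_assoc, ← pow_succ', pow_succ, ← mul_assoc, hcε, mul_assoc]
  refine ⟨r ^ q, L.pow_mem (L.mul_mem hε hf) q, fun h1 => ?_, hz2, hcε, hcf, (-1) ^ q,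
    fun w hw => hneg w hw q, fun w hw => ?_⟩
  · have := orderOf_le_of_pow_eq_one (by omega) h1
    omega
  · have : ∀ k : ℕ, (r ^ k) w = w := by
      intro k
      induction k with
      | zero => simp
      | succ k ih => rw [pow_succ, LinearEquiv.mul_apply, hr, LinearEquiv.mul_apply, hw, ← hr, ih]
    exact this q

include hA

/-- An image of an axis missing a coordinate is an axis or diagonal. -/
theorem shape_of_zero {g : GG} (hg : g ∈ L) (k : Fin 7) {c : Fin 7} (hc : g (e k) c = 0) :
    IsAxis (g (e k)) ∨ IsDiag (g (e k)) := by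
  set y := g (e k) with hy
  have h1 : y ⬝ᵥ y = 1 := by rw [hy, h.iso g hg, e_dot_self]
  have hm : IsMono (N y) := hA _ (N_image_mem h hg k) ⟨c, c, -1, by
    rw [N_apply, R_of_ortho (by rw [dot_e]; exact hc), neg_one_smul]⟩
  obtain ⟨i, hi⟩ : ∃ i, y i ≠ 0 := by
    by_contra h0
    push Not at h0
    rw [show y = 0 from funext h0, zero_dotProduct] at h1
    exact zero_ne_one h1
  obtain ⟨j, hz, hsq⟩ := supp_of_mono h.two (by rw [h1]; exact one_ne_zero) hm hi
  by_cases hji : j = i
  · refine Or.inl ⟨i, y i, funext fun l => ?_⟩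
    by_cases hli : l = i
    · subst hli; rw [Pi.smul_apply, e_same, smul_eq_mul, mul_one]
    · rw [Pi.smul_apply, e_ne hli, smul_zero]; exact hz l hli (hji ▸ hli)
  · have hs : (1 : F) = 2 * (y i * y i) := by
      have := hsq hji
      rw [h1, div_one] at this
      linear_combination this
    have hd : y i * y i + y j * y j = 1 := by rw [← dot_two (Ne.symm hji) hz, h1]
    refine Or.inr ⟨i, j, Ne.symm hji, h1, ?_, hi, hz⟩
    linear_combination -hd - hs

/-- The dihedral group of an image without zero coordinate and a sign change on `a, b`. -/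
theorem pair_data {g : GG} (hg : g ∈ L) {k a b : Fin 7} (hab : a ≠ b) (hfull : ∀ i, g (e k) i ≠ 0) :
    g (e k) a * g (e k) a = g (e k) b * g (e k) b ∧
      N (g⁻¹ (g (e k) b • e a - g (e k) a • e b)) ∈ L := by
  classical
  set y := g (e k) with hy
  have hgI := h.iso g hg
  have h1 : y ⬝ᵥ y = 1 := by rw [hy, hgI, e_dot_self]
  set T : Finset (Fin 7) := {a, b} with hT
  have hTc : T.card = 2 := Finset.card_pair hab
  set ε : GG := R (e a) * R (e b) with hεdef
  have hε : IsFlip T ε := flip_pair h.two hab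
  have hεS : ∀ i ∉ T, ε (e i) = e i := fun i hi => by rw [hε i, if_neg hi]
  have hf : ∀ w, y ⬝ᵥ w = 0 → N y w = -w := fun w hw => by rw [N_apply, R_of_ortho hw]
  have hS2 : ∀ i ∉ T, ∃ j₁ j₂, j₁ ∉ T ∧ j₂ ∉ T ∧ j₁ ≠ i ∧ j₂ ≠ i ∧ j₁ ≠ j₂ := fun i hi => by
    have : 1 < ((Finset.univ \ T).erase i).card := by
      rw [Finset.card_erase_of_mem (by simp [hi]), Finset.card_sdiff_of_subset (Finset.subset_univ T),
        Finset.card_univ, Fintype.card_fin, hTc]
      omega
    obtain ⟨j₁, h1, j₂, h2, h3⟩ := Finset.one_lt_card.mp this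
    simp only [Finset.mem_erase, Finset.mem_sdiff, Finset.mem_univ, true_and] at h1 h2
    exact ⟨j₁, j₂, h1.2, h2.2, h1.1, h2.1, h3⟩
  have hdotw : ∀ i j : Fin 7, y ⬝ᵥ (y j • e i - y i • e j) = 0 := fun i j => by
    rw [dotProduct_sub, dotProduct_smul, dotProduct_smul, dot_e, dot_e, smul_eq_mul, smul_eq_mul,
      mul_comm, sub_self]
  have hrS : ∀ i j, i ∉ T → j ∉ T → ε (N y (y j • e i - y i • e j)) = -(y j • e i - y i • e j) :=
    fun i j hi hj => by
      rw [hf _ (hdotw i j), map_neg, map_sub, map_smul, map_smul, hεS i hi, hεS j hj]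
  have hrT : ε (N y (y b • e a - y a • e b)) = y b • e a - y a • e b := by
    rw [hf _ (hdotw a b), map_neg, map_sub, map_smul, map_smul, hε a, hε b, if_pos (by simp [hT]),
      if_pos (by simp [hT])]
    module
  obtain ⟨i₀, hi₀⟩ : ∃ i, i ∉ T := by
    have hlt : T.card < (Finset.univ : Finset (Fin 7)).card := by
      rw [hTc, Finset.card_univ, Fintype.card_fin]; omega
    obtain ⟨i, -, hi⟩ := Finset.exists_mem_notMem_of_card_lt_card hlt
    exact ⟨i, hi⟩
  obtain ⟨j₀, -, hj₀, -, hji₀, -, -⟩ := hS2 i₀ hi₀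
  have hv : y j₀ • (e i₀ : V) - y i₀ • e j₀ ≠ 0 := fun h0 => hfull j₀ (by
    have := congrFun h0 i₀
    rwa [Pi.sub_apply, Pi.smul_apply, Pi.smul_apply, e_same, e_ne (Ne.symm hji₀), smul_eq_mul,
      smul_eq_mul, mul_one, mul_zero, sub_zero, Pi.zero_apply] at this)
  obtain ⟨z, hz, hz1, -, hzε, hzf, s, hzs, hzT⟩ := exists_central_sign h (h.pair a b)
    (N_image_mem h hg k) (flip_sq hε) (N_self_mul y) hv (hrS i₀ j₀ hi₀ hj₀)
  have hm := h.mono_of_commute hA (T := T) (by omega) ⟨a, by simp [hT]⟩ hε hz hzε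
  have hzI := h.iso z hz
  choose π c hπ using hm
  have hc0 : ∀ i, c i ≠ 0 := fun i h0 => by
    have := mono_pair hzI (hπ i)
    rw [h0, zero_mul] at this
    exact zero_ne_one this
  have hπinj : ∀ i j, π i = π j → i = j := fun i j hij => mono_inj hzI (hπ i) (hij ▸ hπ j)
  -- where a kernel vector of two coordinates goes
  have move : ∀ i j, i ≠ j → ∀ t : F, z (y j • e i - y i • e j) = t • (y j • e i - y i • e j) →
      (π i = i ∨ π i = j) ∧ (π i = i → c i = t) ∧ (π i = j → y j * c i = -(t * y i)) := by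
    intro i j hij t hw
    have hne : π i ≠ π j := fun h0 => hij (hπinj i j h0)
    have hev := congrFun hw (π i)
    rw [map_sub, map_smul, map_smul, hπ i, hπ j] at hev
    simp only [Pi.sub_apply, Pi.smul_apply, smul_eq_mul, e_same, e_ne hne, mul_one, mul_zero,
      sub_zero] at hev
    refine ⟨?_, fun he => ?_, fun he => ?_⟩
    · by_contra hcon
      push Not at hcon
      rw [e_ne hcon.1, e_ne hcon.2, mul_zero, mul_zero, sub_zero, mul_zero] at hev
      exact hc0 i ((mul_eq_zero.mp hev).resolve_left (hfull j))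
    · rw [he, e_same, e_ne hij, mul_one, mul_zero, sub_zero, mul_comm t] at hev
      exact mul_left_cancel₀ (hfull j) hev
    · rw [he, e_same, e_ne (Ne.symm hij), mul_one, mul_zero, zero_sub, mul_neg] at hev
      exact hev
  have hSfix : ∀ i ∉ T, π i = i ∧ c i = s := fun i hi => by
    obtain ⟨j₁, j₂, h1, h2, h3, h4, h5⟩ := hS2 i hi
    obtain ⟨o1, q1, -⟩ := move i j₁ (Ne.symm h3) s (hzs _ (hrS i j₁ hi h1))
    obtain ⟨o2, -, -⟩ := move i j₂ (Ne.symm h4) s (hzs _ (hrS i j₂ hi h2))
    have hpi : π i = i := o1.elim id fun e1 => o2.elim id fun e2 => absurd (e1.symm.trans e2) h5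
    exact ⟨hpi, q1 hpi⟩
  have hwT : z (y b • e a - y a • e b) = (1 : F) • (y b • e a - y a • e b) := by
    rw [one_smul]; exact hzT _ hrT
  obtain ⟨oa, qa, qa'⟩ := move a b hab 1 hwT
  have hwT' : z (y a • e b - y b • e a) = (1 : F) • (y a • e b - y b • e a) := by
    rw [show y a • (e b : V) - y b • e a = -(y b • e a - y a • e b) by module, map_neg, hwT,
      smul_neg]
  obtain ⟨ob, qb, qb'⟩ := move b a (Ne.symm hab) 1 hwT'
  -- the line of `y`
  have hzy : z y = (y ⬝ᵥ z y) • y := by
    have h3 := LinearEquiv.congr_fun hzf y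
    simp only [LinearEquiv.mul_apply] at h3
    have hNy : N y y = y := by rw [N_apply, R_self (by rw [h1]; exact one_ne_zero), neg_neg]
    rw [hNy, N_apply, R_apply, h1, div_one] at h3
    refine smul_right_injective V h.two ?_
    show (2 : F) • z y = (2 : F) • _
    linear_combination (norm := module) -h3
  set t := y ⬝ᵥ z y
  have hzy' : ∀ l, y l * c l = t * y (π l) := fun l => by
    have e1 : z y ⬝ᵥ z (e l) = y ⬝ᵥ e l := hzI _ _
    rw [hzy, hπ l, dotProduct_smul, smul_dotProduct, dot_e, dot_e, smul_eq_mul, smul_eq_mul] at e1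
    have hcc := mono_pair hzI (hπ l)
    linear_combination -(c l) * e1 + t * y (π l) * hcc
  have hTmem : ∀ i ∈ T, i = a ∨ i = b := fun i hi => by simpa [hT] using hi
  rcases oa with ea | ea
  · exfalso
    have eb : π b = b := ob.resolve_right fun e1 => hab (hπinj a b (ea.trans e1.symm))
    have ht : t = 1 := by
      have := hzy' a
      rw [ea, qa ea] at this
      exact mul_right_cancel₀ (hfull a) (by linear_combination -this)
    have hs : s = 1 := by
      have := hzy' i₀
      rw [(hSfix i₀ hi₀).1, (hSfix i₀ hi₀).2, ht] at this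
      exact mul_left_cancel₀ (hfull i₀) (by linear_combination this)
    refine hz1 (ext_e fun i => ?_)
    rw [LinearEquiv.coe_one, id_eq, hπ i]
    by_cases hi : i ∈ T
    · rcases hTmem i hi with rfl | rfl
      · rw [ea, qa ea, one_smul]
      · rw [eb, qb eb, one_smul]
    · rw [(hSfix i hi).1, (hSfix i hi).2, hs, one_smul]
  have eb : π b = a := ob.resolve_left fun e1 => hab (hπinj a b (ea.trans e1.symm))
  have ha' : y b * c a = -y a := by rw [qa' ea, one_mul]
  have hb' : y a * c b = -y b := by rw [qb' eb, one_mul]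
  have hcc := mono_pair hzI (hπ a)
  have hsq : y a * y a = y b * y b := by
    linear_combination (y b * y b) * hcc - (y b * c a - y a) * ha'
  refine ⟨hsq, ?_⟩
  have ht : t = -1 := by
    have h3 := hzy' a
    rw [ea] at h3
    refine mul_right_cancel₀ (mul_ne_zero (hfull b) (hfull b)) ?_
    linear_combination -(y b) * h3 + y a * ha' - hsq
  have hs : s = -1 := by
    have := hzy' i₀
    rw [(hSfix i₀ hi₀).1, (hSfix i₀ hi₀).2, ht] at this
    exact mul_left_cancel₀ (hfull i₀) (by linear_combination this)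
  set w := y b • (e a : V) - y a • e b with hw
  have hwn : w ⬝ᵥ w = 2 * (y a * y a) := by
    rw [hw, sub_dotProduct, smul_dotProduct, smul_dotProduct, e_dot, e_dot]
    simp only [Pi.sub_apply, Pi.smul_apply, smul_eq_mul, e_same, e_ne hab, e_ne (Ne.symm hab)]
    linear_combination -hsq
  have hw0 : w ⬝ᵥ w ≠ 0 := by rw [hwn]; exact mul_ne_zero h.two (mul_ne_zero (hfull a) (hfull a))
  have hzw : z = N w := by
    refine ext_e fun i => funext fun l => ?_
    rw [hπ i, N_apply, R_apply, dot_e, Pi.smul_apply, Pi.neg_apply, Pi.sub_apply, Pi.smul_apply,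
      smul_eq_mul, smul_eq_mul]
    by_cases hi : i ∈ T
    · have hwl : w l = y b * e (F := F) a l - y a * e (F := F) b l := rfl
      rw [hwl]
      rcases hTmem i hi with rfl | rfl
      · rw [ea, hw, Pi.sub_apply, Pi.smul_apply, Pi.smul_apply, e_same, e_ne hab, smul_eq_mul,
          smul_eq_mul, ← hw, hwn]
        field_simp [h.two, hfull i, hfull b]
        linear_combination (e (F := F) b l * y i * c i) * ha' - (e (F := F) b l * y i * y b) * hcc +
          e (F := F) i l * hsq
      · rw [eb, hw, Pi.sub_apply, Pi.smul_apply, Pi.smul_apply, e_same, e_ne (Ne.symm hab), smul_eq_mul,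
          smul_eq_mul, ← hw, hwn]
        field_simp [h.two, hfull i, hfull a]
        linear_combination (y a * e (F := F) a l) * hb'
    · have hia : i ≠ a := fun h0 => hi (by simp [hT, h0])
      have hib : i ≠ b := fun h0 => hi (by simp [hT, h0])
      rw [(hSfix i hi).1, (hSfix i hi).2, hs, hw, Pi.sub_apply, Pi.smul_apply, Pi.smul_apply,
        e_ne hia, e_ne hib, smul_eq_mul, smul_eq_mul, ← hw]
      ring
  rw [← N_conj (h.iso g⁻¹ (L.inv_mem hg)), ← hzw, inv_inv]
  exact L.mul_mem (L.mul_mem (L.inv_mem hg) hz) hg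

/-- No image of an axis has all seven coordinates. -/
theorem no_full (hF : Fintype.card F = p) {g : GG} (hg : g ∈ L) (k : Fin 7) :
    ¬ ∀ i, g (e k) i ≠ 0 := by
  classical
  intro hfull
  have hgI := h.iso g hg
  set y := g (e k) with hy
  have h1 : y ⬝ᵥ y = 1 := by rw [hy, hgI, e_dot_self]
  set c := y 0 * y 0 with hc
  have hsq : ∀ a, y a * y a = c := fun a => by
    by_cases h0 : a = 0
    · rw [h0]
    · exact (pair_data h hA hg h0 hfull).1
  have h7 : 7 * c = 1 := by
    rw [← h1, dotProduct, Finset.sum_congr rfl fun i _ => hsq i, Finset.sum_const, Finset.card_univ,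
      Fintype.card_fin, nsmul_eq_mul]
    norm_num
  let x : Fin 7 → Fin 7 → F := fun l a => g (e l) a * y a
  have lower : ∀ l, l ≠ k → 17 ≤ ∑ a, (Finset.univ.filter fun b => x l a ≠ x l b).card := by
    intro l hl
    refine seventeen_le _ fun d β hall => ?_
    have hsum : x l d + 6 * β = 0 := by
      have h0 : g (e l) ⬝ᵥ y = 0 := by rw [hy, hgI, e_dot_ne hl]
      rw [dotProduct, ← Finset.add_sum_erase _ _ (Finset.mem_univ d),
        Finset.sum_congr rfl fun b hb => hall b (Finset.ne_of_mem_erase hb), Finset.sum_const,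
        Finset.card_erase_of_mem (Finset.mem_univ d), Finset.card_univ, Fintype.card_fin,
        nsmul_eq_mul] at h0
      norm_num at h0
      exact h0
    have hY : ∀ i, g (e l) i ≠ 0 := by
      intro i hi
      have hβ : β = 0 := by
        by_cases hid : i = d
        · have h0 : x l d = 0 := by simp only [x, ← hid, hi, zero_mul]
          rw [h0, zero_add] at hsum
          by_contra hb
          -- `6 = 0` makes the column a multiple of one axis or constant
          obtain ⟨b, hbd⟩ := exists_ne d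
          rcases shape_of_zero h hA hg l hi with ⟨j, t, hj⟩ | ⟨u, v, -, -, -, -, hz⟩
          · obtain ⟨m, hmd, hmj⟩ := (show ∀ d j : Fin 7, ∃ m, m ≠ d ∧ m ≠ j by decide) d j
            have := hall m hmd
            simp only [x, hj, Pi.smul_apply, e_ne hmj, smul_zero, zero_mul] at this
            exact hb this.symm
          · obtain ⟨m, hmd, hmu, hmv⟩ :=
              (show ∀ d u v : Fin 7, ∃ m, m ≠ d ∧ m ≠ u ∧ m ≠ v by decide) d u v
            have := hall m hmd
            simp only [x, hz m hmu hmv, zero_mul] at this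
            exact hb this.symm
        · rw [← hall i hid]
          simp only [x, hi, zero_mul]
      have hx0 : ∀ b, x l b = 0 := fun b => by
        by_cases hbd : b = d
        · rw [hbd]; rw [hβ, mul_zero, add_zero] at hsum; exact hsum
        · rw [hall b hbd, hβ]
      have hn : g (e l) ⬝ᵥ g (e l) = 1 := by rw [hgI, e_dot_self]
      rw [show g (e l) = 0 from funext fun b => (mul_eq_zero.mp (hx0 b)).resolve_right (hfull b),
        zero_dotProduct] at hn
      exact zero_ne_one hn
    obtain ⟨m, hmd⟩ := exists_ne d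
    have hYsq : g (e l) d * g (e l) d = g (e l) m * g (e l) m :=
      (pair_data h hA hg (Ne.symm hmd) hY).1
    have hβ : β ≠ 0 := by
      rw [← hall m hmd]
      exact mul_ne_zero (hY m) (hfull m)
    have h35 : x l d * x l d = β * β := by
      rw [← hall m hmd]
      simp only [x]
      linear_combination (y d * y d) * hYsq + (g (e l) m * g (e l) m) * ((hsq d).trans (hsq m).symm)
    have h5 : (5 : F) = 0 := by
      have h70 : (7 : F) ≠ 0 := fun h0 => one_ne_zero (α := F) (by rw [← h7, h0, zero_mul])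
      refine (mul_eq_zero.mp ?_).resolve_right (mul_ne_zero (mul_ne_zero hβ hβ) h70)
      linear_combination h35 - (x l d - 6 * β) * hsum
    have hp5 : p = 5 := by
      have hp := (Fact.out : p.Prime)
      have : CharP F p := by
        obtain ⟨q, hq⟩ := CharP.exists F
        obtain ⟨e0, hq', he⟩ := FiniteField.card F q
        rw [hF] at he
        have hqp : q = p := by
          have := (Nat.prime_dvd_prime_iff_eq hq' hp).mp (he ▸ dvd_pow_self q e0.ne_zero)
          exact this
        exact hqp ▸ hq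
      have h55 : p ∣ 5 := (CharP.cast_eq_zero_iff F p 5).mp (by exact_mod_cast h5)
      exact (Nat.prime_dvd_prime_iff_eq hp (by norm_num)).mp h55
    have h4 := FiniteField.pow_card_sub_one_eq_one (y 0) (hfull 0)
    rw [hF, hp5] at h4
    norm_num at h4
    exact h.two (by linear_combination (-7 * c - 1) * h7 + 49 * h4 + 10 * h5)
  have upper : ∀ a b, ((Finset.univ.erase k).filter fun l => x l a ≠ x l b).card ≤ 2 := fun a b => by
    by_cases hab : a = b
    · subst hab; simp
    set u := g⁻¹ (y b • e a - y a • e b) with hu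
    have hgu : g u = y b • e a - y a • e b := LinearEquiv.apply_symm_apply g _
    have hul : ∀ l, u l = y b * g (e l) a - y a * g (e l) b := fun l => by
      rw [← dot_e l u, ← hgI, hgu]
      rw [sub_dotProduct, smul_dotProduct, smul_dotProduct, e_dot, e_dot, smul_eq_mul, smul_eq_mul]
    have hne : ∀ l, x l a ≠ x l b → u l ≠ 0 := fun l hl h0 => hl (by
      rw [hul] at h0
      refine mul_left_cancel₀ (mul_ne_zero (hfull b) (hfull b)) ?_
      simp only [x]
      linear_combination (y b * y a) * h0 + (y b * g (e l) b) * ((hsq a).trans (hsq b).symm))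
    rcases Finset.eq_empty_or_nonempty ((Finset.univ.erase k).filter fun l => x l a ≠ x l b) with h0 | ⟨i, hi⟩
    · rw [h0]; simp
    have hun : u ⬝ᵥ u ≠ 0 := by
      rw [← hgI u u, hgu]
      simp only [sub_dotProduct, smul_dotProduct, e_dot, Pi.sub_apply, Pi.smul_apply, smul_eq_mul,
        e_same, e_ne hab, e_ne (Ne.symm hab)]
      have := mul_ne_zero h.two (mul_ne_zero (hfull a) (hfull a))
      intro h0
      apply this
      linear_combination h0 + (hsq a).trans (hsq b).symm
    have huk : u k = 0 := by rw [hul, mul_comm, sub_self]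
    have hm : IsMono (N u) := hA _ (pair_data h hA hg hab hfull).2 ⟨k, k, -1, by
      rw [N_apply, R_of_ortho (by rw [dot_e]; exact huk), neg_one_smul]⟩
    obtain ⟨j, hj, -⟩ := supp_of_mono h.two hun hm (hne i (Finset.mem_filter.mp hi).2)
    refine (Finset.card_le_card (t := {i, j}) fun l hl => ?_).trans Finset.card_le_two
    have hl' := hne l (Finset.mem_filter.mp hl).2
    by_contra hc'
    simp only [Finset.mem_insert, Finset.mem_singleton, not_or] at hc'
    exact hl' (hj l hc'.1 hc'.2)
  have hlo : 6 * 17 ≤ ∑ l ∈ Finset.univ.erase k, ∑ a, (Finset.univ.filter fun b => x l a ≠ x l b).card := by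
    have := Finset.card_nsmul_le_sum (Finset.univ.erase k)
      (fun l => ∑ a, (Finset.univ.filter fun b => x l a ≠ x l b).card) 17
      fun l hl => lower l (Finset.ne_of_mem_erase hl)
    rwa [Finset.card_erase_of_mem (Finset.mem_univ k), Finset.card_univ, Fintype.card_fin,
      smul_eq_mul] at this
  have hhi : ∑ l ∈ Finset.univ.erase k, ∑ a, (Finset.univ.filter fun b => x l a ≠ x l b).card ≤ 98 := by
    simp only [Finset.card_filter]
    rw [Finset.sum_comm]
    calc ∑ a, ∑ l ∈ Finset.univ.erase k, ∑ b, (if x l a ≠ x l b then 1 else 0)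
        = ∑ a, ∑ b, ∑ l ∈ Finset.univ.erase k, (if x l a ≠ x l b then 1 else 0) :=
          Finset.sum_congr rfl fun a _ => Finset.sum_comm
      _ ≤ ∑ _a : Fin 7, ∑ _b : Fin 7, 2 := Finset.sum_le_sum fun a _ => Finset.sum_le_sum fun b _ => by
          have := upper a b
          rwa [Finset.card_filter] at this
      _ = 98 := by simp
  omega

theorem all_mono_seven (hF : Fintype.card F = p) {g : GG} (hg : g ∈ L) : IsMono g := by
  have hshape : ∀ k, IsAxis (g (e k)) ∨ IsDiag (g (e k)) := fun k => by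
    have := no_full h hA hF hg k
    push Not at this
    obtain ⟨c, hc⟩ := this
    exact shape_of_zero h hA hg k hc
  by_cases hd : ∃ k, IsDiag (g (e k))
  · obtain ⟨k, hk⟩ := hd
    obtain ⟨q, hq, ⟨c, hqc⟩, hqm⟩ := h.exists_fix_not_mono hg Finset.univ
      (by rw [Finset.card_univ, Fintype.card_fin]; omega) (fun k _ => hshape k)
      (fun _ _ l hl => absurd (Finset.mem_univ l) hl) (Finset.mem_univ k) hk
    exact absurd (hA q hq ⟨c, c, 1, by rw [one_smul, hqc]⟩) hqm
  · push Not at hd
    obtain ⟨j, c, hj⟩ := (hshape 0).resolve_right (hd _)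
    exact hA g hg ⟨_, j, c, hj⟩

omit h hA in
theorem Ctx.all_mono {m : ℕ} {M : Subgroup ((Fin m → F) ≃ₗ[F] (Fin m → F))} (hM : Ctx M)
    (hF : Fintype.card F = p) (hR : AxisRigid M) {g : ((Fin m → F) ≃ₗ[F] (Fin m → F))} (hg : g ∈ M) :
    IsMono g := by
  rcases hM.dim with rfl | hm
  · exact all_mono_seven hM hR hF hg
  · exact hM.all_mono_big hm hR hg

end Cfsg.Agent.TableRelax.Mono
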