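import Cfsg.Agent.Lib.TableRelax.Mono.Small
import Cfsg.Agent.Lib.Subspaces.OrthNondeg
import Cfsg.Agent.Lib.Subspaces.OrthLines
import Cfsg.Agent.Lib.Subspaces.Decomposition

/-!
Maximality in `Ω` of the stabiliser of an orthogonal frame of isometric lines over a prime field.
-/

set_option autoImplicit false

namespace Cfsg.Agent.TableRelax.Mono.Transfer

open Matrix Cfsg.Agent.Lib.Subspaces.Transvection Cfsg.Agent.Lib.Subspaces.FormVec
  Cfsg.Agent.Lib.Subspaces.OrthForm Cfsg.Agent.Lib.Subspaces.OrthLines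
  Cfsg.Agent.Lib.Subspaces.OmegaGL Cfsg.Agent.Lib.Subspaces.OrthNondeg
  Cfsg.Agent.Lib.Subspaces.Decomposition

variable {ι : Type} [Fintype ι] [DecidableEq ι] {F : Type*} [Field F] {t : ℕ}

/-- Coordinates along a frame of lines of norm `c`. -/
structure Std (Q : (ι → F) → F) (D : Fin t → Submodule F (ι → F)) where
  c : F
  hc : c ≠ 0
  T : (ι → F) ≃ₗ[F] (Fin t → F)
  polar : ∀ x y, QuadraticMap.polar Q x y = 2 * c * (T x ⬝ᵥ T y)
  norm : ∀ x, Q x = c * (T x ⬝ᵥ T x)
  line_mem : ∀ i, T.symm (e i) ∈ D i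
  line : ∀ i, ∀ v ∈ D i, ∃ a : F, T v = a • e i

theorem exists_std {Q : (ι → F) → F} {D : Fin t → Submodule F (ι → F)}
    (hQ : Cfsg.Geo.IsNondegenerateQuadraticForm Q) (h2 : (2 : F) ≠ 0)
    (hD : Cfsg.Geo.IsOrthogonalMDecomposition Q 1 D) : Nonempty (Std Q D) := by
  classical
  have hb := hQ.polar_bilinear
  have hd := hD.decomp.decomp
  let i₀ : Fin t := ⟨0, by have := hd.two_le; omega⟩
  obtain ⟨v₀, hv₀, hv₀0⟩ := Submodule.exists_mem_ne_zero_of_ne_bot (block_ne_bot hd i₀)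
  have hiso : ∀ i, ∃ v ∈ D i, v ≠ 0 ∧ Q v = Q v₀ := fun i => by
    obtain ⟨f, hf⟩ := hD.isometric i₀ i
    refine ⟨(f ⟨v₀, hv₀⟩ : D i), (f ⟨v₀, hv₀⟩).2, fun h => hv₀0 ?_, hf ⟨v₀, hv₀⟩⟩
    have h' : f ⟨v₀, hv₀⟩ = 0 := Subtype.ext h
    exact congrArg Subtype.val (f.map_eq_zero_iff.mp h')
  choose v hv hv0 hvQ using hiso
  have hspan : ∀ i, ∀ w ∈ D i, ∃ a : F, a • v i = w := fun i w hw => by
    obtain ⟨a, ha⟩ := (finrank_eq_one_iff_of_nonzero' (⟨v i, hv i⟩ : D i)
      (fun h => hv0 i (congrArg Subtype.val h))).mp (hd.finrank_eq i) ⟨w, hw⟩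
    exact ⟨a, congrArg Subtype.val ha⟩
  set c := Q v₀ with hcdef
  have hc : c ≠ 0 := by
    obtain ⟨⟨x, hx, hxv⟩, -⟩ := hD.decomp.nondegenerate i₀ v₀ hv₀ hv₀0
    obtain ⟨a, rfl⟩ := hspan i₀ x hx
    obtain ⟨b, hb'⟩ := hspan i₀ v₀ hv₀
    intro h0
    apply hxv
    rw [← hb', hb.smul_left, hb.smul_right, B_self hQ, hvQ i₀, h0, mul_zero, mul_zero, mul_zero]
  let S : (Fin t → F) →ₗ[F] (ι → F) := Fintype.linearCombination F v
  have hS : ∀ a, S a = ∑ i, a i • v i := fun a => Fintype.linearCombination_apply F v a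
  have hpol : ∀ a b, QuadraticMap.polar Q (S a) (S b) = 2 * c * (a ⬝ᵥ b) := fun a b => by
    rw [hS, hS, form_sum_sum (D := D) hb.add_left hb.add_right hD.decomp.orthogonal
      (fun i => (D i).smul_mem _ (hv i)) (fun i => (D i).smul_mem _ (hv i)), dotProduct,
      Finset.mul_sum]
    refine Finset.sum_congr rfl fun i _ => ?_
    rw [hb.smul_left, hb.smul_right, B_self hQ, hvQ i]
    ring
  have hinj : Function.Injective S := by
    intro a b hab
    ext i
    have h1 := hpol a (e i)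
    rw [hab, hpol b (e i), dot_e, dot_e] at h1
    exact (mul_left_cancel₀ (mul_ne_zero h2 hc) h1).symm
  have hdim : Module.finrank F (Fin t → F) = Module.finrank F (ι → F) := by
    rw [Module.finrank_fintype_fun_eq_card, Module.finrank_fintype_fun_eq_card, Fintype.card_fin,
      card_eq hd, mul_one]
  let T := (LinearMap.linearEquivOfInjective S hinj hdim).symm
  have hST : ∀ x, S (T x) = x := fun x =>
    (LinearMap.linearEquivOfInjective S hinj hdim).apply_symm_apply x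
  have hline : ∀ i, T.symm (e i) = v i := fun i => by
    show S (e i) = v i
    rw [hS, Finset.sum_eq_single i (fun j _ hj => by rw [e_ne hj, zero_smul])
      (fun h => absurd (Finset.mem_univ _) h), e_same, one_smul]
  refine ⟨⟨c, hc, T, fun x y => ?_, fun x => ?_, fun i => hline i ▸ hv i, fun i w hw => ?_⟩⟩
  · rw [← hpol, hST, hST]
  · apply mul_left_cancel₀ h2
    rw [← B_self hQ, ← hST x, hpol, hST]
    ring
  · obtain ⟨a, rfl⟩ := hspan i w hw
    exact ⟨a, by rw [← hline i, map_smul, LinearEquiv.apply_symm_apply]⟩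

namespace Std

variable {Q : (ι → F) → F} {D : Fin t → Submodule F (ι → F)} (S : Std Q D)

/-- A matrix in the frame's coordinates. -/
noncomputable def φ : GL ι F →* ((Fin t → F) ≃ₗ[F] (Fin t → F)) :=
  MonoidHom.mk'
    (fun g =>
      { toFun := fun v => S.T ((g : Matrix ι ι F) *ᵥ S.T.symm v)
        invFun := fun v => S.T (((g⁻¹ : GL ι F) : Matrix ι ι F) *ᵥ S.T.symm v)
        map_add' := fun v w => by simp [mulVec_add]
        map_smul' := fun a v => by simp [mulVec_smul]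
        left_inv := fun v => by
          simp [Matrix.mulVec_mulVec, ← Units.val_mul]
        right_inv := fun v => by
          simp [Matrix.mulVec_mulVec, ← Units.val_mul] })
    fun a b => LinearEquiv.ext fun v => by simp [LinearEquiv.mul_apply, gl_mul_mulVec]

theorem φ_apply (g : GL ι F) (v : Fin t → F) :
    S.φ g v = S.T ((g : Matrix ι ι F) *ᵥ S.T.symm v) := rfl

theorem φ_T (g : GL ι F) (x : ι → F) : S.φ g (S.T x) = S.T ((g : Matrix ι ι F) *ᵥ x) := by
  rw [φ_apply, LinearEquiv.symm_apply_apply]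

theorem φ_injective : Function.Injective S.φ := fun a b h => gl_ext fun x =>
  S.T.injective (by rw [← φ_T, ← φ_T, h])

/-- Back from the coordinates. -/
noncomputable def ψ (h : (Fin t → F) ≃ₗ[F] (Fin t → F)) : GL ι F :=
  glOfEquiv (S.T.trans (h.trans S.T.symm))

theorem φ_ψ (h : (Fin t → F) ≃ₗ[F] (Fin t → F)) : S.φ (S.ψ h) = h := LinearEquiv.ext fun v => by
  rw [φ_apply, ψ, glOfEquiv_mulVec]
  simp

theorem iso_iff (h2 : (2 : F) ≠ 0) {g : GL ι F} :
    (∀ x, Q ((g : Matrix ι ι F) *ᵥ x) = Q x) ↔ Iso (S.φ g) := by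
  constructor
  · intro hg v w
    have h1 := B_map hg (S.T.symm v) (S.T.symm w)
    rw [S.polar, S.polar, LinearEquiv.apply_symm_apply, LinearEquiv.apply_symm_apply] at h1
    exact mul_left_cancel₀ (mul_ne_zero h2 S.hc) h1
  · intro hg x
    rw [S.norm, S.norm, ← φ_T, hg]

variable [Fintype F] (hQ : Cfsg.Geo.IsNondegenerateQuadraticForm Q) (h2 : (2 : F) ≠ 0)
  (hn : Fintype.card ι = 7 ∨ 9 ≤ Fintype.card ι) (hD : Cfsg.Geo.IsOrthogonalMDecomposition Q 1 D)

include hQ h2 in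
/-- A pair of reflections in orthogonal vectors of equal norm. -/
theorem exists_pair (hn5 : 5 ≤ Fintype.card ι) {x y : Fin t → F} (hx : x ⬝ᵥ x ≠ 0)
    (hxy : y ⬝ᵥ y = x ⬝ᵥ x) (ho : x ⬝ᵥ y = 0) :
    ∃ g ∈ Cfsg.Geo.omegaGL Q, S.φ g = R x * R y := by
  obtain ⟨g, hg, hgz⟩ := exists_refl_pair hQ hn5 (x := S.T.symm x) (y := S.T.symm y)
    (by rw [S.norm, LinearEquiv.apply_symm_apply]; exact mul_ne_zero S.hc hx)
    (by rw [S.norm, S.norm, LinearEquiv.apply_symm_apply, LinearEquiv.apply_symm_apply, hxy])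
    (by rw [S.polar, LinearEquiv.apply_symm_apply, LinearEquiv.apply_symm_apply, ho, mul_zero])
  refine ⟨g, hg, LinearEquiv.ext fun v => ?_⟩
  rw [φ_apply, hgz, map_add, map_add, map_smul, map_smul, LinearEquiv.apply_symm_apply,
    LinearEquiv.apply_symm_apply, LinearEquiv.apply_symm_apply, S.polar, S.polar, S.norm,
    LinearEquiv.apply_symm_apply, LinearEquiv.apply_symm_apply, LinearEquiv.apply_symm_apply,
    LinearEquiv.mul_apply, R_apply, R_apply, dotProduct_sub, dotProduct_smul, ho, smul_zero,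
    sub_zero, hxy, dotProduct_comm v x, dotProduct_comm v y]
  have := S.hc
  have e1 : ∀ d : F, (S.c * (x ⬝ᵥ x))⁻¹ * (2 * S.c * d) = 2 * d / (x ⬝ᵥ x) := fun d => by
    field_simp
  rw [e1, e1]
  module

include h2 in
theorem det_one {g : GL ι F} (hg : g ∈ Cfsg.Geo.omegaGL Q) :
    LinearEquiv.det (S.φ g) = 1 := by
  obtain ⟨h, hh, rfl⟩ := hg
  have hle := Abelianization.commutator_subset_ker
    ((LinearEquiv.det.comp S.φ).comp (Cfsg.isometryGroup F Q).subtype)
  exact hle hh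

include hD in
/-- Monomial elements of `Ω` stabilise the frame. -/
theorem mem_stab_of_mono {g : GL ι F} (hg : IsMono (S.φ g)) :
    g ∈ Cfsg.Geo.decompositionStabilizer D := by
  refine mem_stabilizer_of_mapsTo hD.decomp.decomp fun i => ?_
  obtain ⟨j, c, hj⟩ := hg i
  refine ⟨j, fun v hv => ?_⟩
  obtain ⟨a, ha⟩ := S.line i v hv
  have : (g : Matrix ι ι F) *ᵥ v = (a * c) • S.T.symm (e j) := by
    apply S.T.injective
    rw [← φ_T, ha, map_smul, hj, map_smul, LinearEquiv.apply_symm_apply, smul_smul]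
  rw [this]
  exact (D j).smul_mem _ (S.line_mem j)

theorem mono_of_stab {g : GL ι F} (hg : g ∈ Cfsg.Geo.decompositionStabilizer D) :
    IsMono (S.φ g) := by
  obtain ⟨σ, hσ⟩ := exists_image_of_mem hg
  intro i
  obtain ⟨a, ha⟩ := S.line (σ i) _ (hσ i _ (S.line_mem i))
  exact ⟨σ i, a, by rw [φ_apply, ha]⟩

include hQ h2 hn in
/-- Even permutations of the frame lie in `Ω`. -/
theorem perm_mem (ht : t = Fintype.card ι) {σ : Equiv.Perm (Fin t)}
    (hσ : Equiv.Perm.sign σ = 1) : S.ψ (P σ) ∈ Cfsg.Geo.omegaGL Q := by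
  let π : Equiv.Perm (Fin t) →* Cfsg.isometryGroup F Q := MonoidHom.mk'
    (fun τ => ⟨S.ψ (P τ), fun u _ => by
      have := (S.iso_iff h2 (g := S.ψ (P τ))).mpr (by rw [φ_ψ]; exact P_iso τ)
      exact this u⟩)
    fun a b => Subtype.ext (S.φ_injective (by
      show S.φ (S.ψ (P (a * b))) = S.φ (S.ψ (P a) * S.ψ (P b))
      rw [map_mul, φ_ψ, φ_ψ, φ_ψ]
      exact LinearEquiv.ext fun v => funext fun i => by
        simp [LinearEquiv.mul_apply, P_apply, Equiv.Perm.mul_def]))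
  have h1 : σ ∈ commutator (Equiv.Perm (Fin t)) := by
    rw [alternatingGroup.commutator_perm_eq (by rw [Nat.card_fin]; omega),
      Equiv.Perm.mem_alternatingGroup]
    exact hσ
  have h3 : π σ ∈ Cfsg.Omega F Q := by
    have h4 : π σ ∈ (commutator (Equiv.Perm (Fin t))).map π := ⟨σ, h1, rfl⟩
    rw [commutator_def, Subgroup.map_commutator] at h4
    exact Subgroup.commutator_mono le_top le_top h4
  exact ⟨π σ, h3, rfl⟩

include hQ h2 hn hD in
/-- The standing hypotheses hold above the stabiliser. -/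
theorem ctx {M : Subgroup (GL ι F)}
    (habove : Cfsg.Geo.decompositionStabilizer D ⊓ Cfsg.Geo.omegaGL Q ≤ M)
    (hbelow : M ≤ Cfsg.Geo.omegaGL Q) : Ctx (M.map S.φ) := by
  have ht : t = Fintype.card ι := by rw [card_eq hD.decomp.decomp, mul_one]
  have hmem : ∀ g ∈ Cfsg.Geo.omegaGL Q, IsMono (S.φ g) → S.φ g ∈ M.map S.φ := fun g hg hm =>
    ⟨g, habove ⟨S.mem_stab_of_mono hD hm, hg⟩, rfl⟩
  refine ⟨h2, ht ▸ hn, ?_, ?_, fun i j => ?_, fun σ hσ => ?_, fun a b c hab hca hcb α hα => ?_⟩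
  · rintro _ ⟨g, hg, rfl⟩
    exact (S.iso_iff h2).mp (omega_isometry hQ (hbelow hg))
  · rintro _ ⟨g, hg, rfl⟩
    exact S.det_one h2 (hbelow hg)
  · by_cases hij : i = j
    · rw [hij, R_mul_self]; exact one_mem _
    obtain ⟨g, hg, hgφ⟩ := S.exists_pair hQ h2 (by omega) (x := e i) (y := e j)
      (by rw [e_dot_self]; exact one_ne_zero) (by rw [e_dot_self, e_dot_self]) (e_dot_ne hij)
    rw [← hgφ]
    refine hmem g hg fun k => ?_
    rw [hgφ, LinearEquiv.mul_apply]
    have hR : ∀ l k : Fin t, ∃ s : F, R (e l : Fin t → F) (e k) = s • e k := fun l k => by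
      by_cases hlk : l = k
      · exact ⟨-1, by rw [hlk, R_self (by rw [e_dot_self]; exact one_ne_zero), neg_one_smul]⟩
      · exact ⟨1, by rw [R_of_ortho (e_dot_ne hlk), one_smul]⟩
    obtain ⟨s, hs⟩ := hR j k
    obtain ⟨s', hs'⟩ := hR i k
    exact ⟨k, s * s', by rw [hs, map_smul, hs', smul_smul]⟩
  · rw [← S.φ_ψ (P σ)]
    refine hmem _ (S.perm_mem hQ h2 hn ht hσ) fun k => ⟨σ k, 1, ?_⟩
    rw [φ_ψ, P_e, one_smul]
  · have hxx : (α • e a + α • e b : Fin t → F) ⬝ᵥ (α • e a + α • e b) = 1 := by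
      simp [add_dotProduct, smul_dotProduct, e_dot, e_same, e_ne hab, e_ne (Ne.symm hab)]
      linear_combination hα
    obtain ⟨g, hg, hgφ⟩ := S.exists_pair hQ h2 (by omega) (x := α • e a + α • e b) (y := e c)
      (by rw [hxx]; exact one_ne_zero) (by rw [hxx, e_dot_self])
      (by simp [add_dotProduct, smul_dotProduct, e_dot, e_ne (Ne.symm hca), e_ne (Ne.symm hcb)])
    rw [← hgφ]
    refine hmem g hg fun k => ?_
    rw [hgφ, LinearEquiv.mul_apply]
    by_cases hkc : k = c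
    · refine ⟨k, -1, ?_⟩
      subst hkc
      rw [R_self (by rw [e_dot_self]; exact one_ne_zero), map_neg,
        R_of_ortho (by simp [add_dotProduct, smul_dotProduct, e_dot, e_ne (Ne.symm hca),
          e_ne (Ne.symm hcb)]), neg_one_smul]
    rw [R_of_ortho (e_dot_ne (Ne.symm hkc)), R_unit hxx]
    have hd : (α • e a + α • e b : Fin t → F) ⬝ᵥ e k = α * e (F := F) k a + α * e (F := F) k b := by
      simp [add_dotProduct, smul_dotProduct, e_dot]
    rw [hd]
    by_cases hka : k = a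
    · refine ⟨b, -1, ?_⟩
      subst hka
      rw [e_same, e_ne (Ne.symm hab), smul_add, smul_smul, smul_smul]
      rw [show 2 * (α * 1 + α * 0) * α = 1 by linear_combination hα, one_smul, one_smul,
        neg_one_smul]
      abel
    by_cases hkb : k = b
    · refine ⟨a, -1, ?_⟩
      subst hkb
      rw [e_same, e_ne hab, smul_add, smul_smul, smul_smul]
      rw [show 2 * (α * 0 + α * 1) * α = 1 by linear_combination hα, one_smul, one_smul,
        neg_one_smul]
      abel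
    exact ⟨k, 1, by rw [e_ne (Ne.symm hka), e_ne (Ne.symm hkb)]; simp⟩

include S hQ h2 hn hD in
/-- **The monomial group is maximal in `Ω`.** -/
theorem maximal (hprime : (Fintype.card F).Prime) :
    Cfsg.Geo.IsMaximalIn (Cfsg.Geo.omegaGL Q)
      (Cfsg.Geo.decompositionStabilizer D ⊓ Cfsg.Geo.omegaGL Q) := by
  classical
  haveI : Fact (Fintype.card F).Prime := ⟨hprime⟩
  have hp2 : Fintype.card F ≠ 2 := fun h => h2 (by
    have := FiniteField.cast_card_eq_zero F
    rw [h] at this; exact_mod_cast this)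
  have ht : t = Fintype.card ι := by rw [card_eq hD.decomp.decomp, mul_one]
  refine isMaximalIn_of inf_le_right ?_ fun M hHM hMK g hgM hgH => ?_
  · -- an element of `Ω` outside
    obtain ⟨a, b, c, d, x, hab, hac, hbc, hda, hdb, hdc, hx, ha, hb, hc, hxd⟩ :
        ∃ (a b c d : Fin t) (x : Fin t → F), a ≠ b ∧ a ≠ c ∧ b ≠ c ∧ d ≠ a ∧ d ≠ b ∧ d ≠ c ∧
          x ⬝ᵥ x = 1 ∧ x a ≠ 0 ∧ x b ≠ 0 ∧ x c ≠ 0 ∧ x d = 0 := by
      refine ⟨⟨0, by omega⟩, ⟨1, by omega⟩, ⟨2, by omega⟩, ⟨3, by omega⟩, ?_⟩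
      by_cases h3 : (3 : F) = 0
      · refine ⟨e ⟨0, by omega⟩ + e ⟨1, by omega⟩ + e ⟨2, by omega⟩ + e ⟨4, by omega⟩, by simp, by simp,
          by simp, by simp, by simp, by simp, ?_, ?_, ?_, ?_, ?_⟩
        · simp [add_dotProduct, e_dot, e, Pi.single_apply]
          linear_combination h3
        all_goals simp [e, Pi.single_apply]
      · refine ⟨(2 / 3 : F) • e ⟨0, by omega⟩ + (2 / 3 : F) • e ⟨1, by omega⟩ +
          (1 / 3 : F) • e ⟨2, by omega⟩, by simp, by simp, by simp, by simp, by simp, by simp,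
          ?_, ?_, ?_, ?_, ?_⟩
        · simp [add_dotProduct, smul_dotProduct, e_dot, e, Pi.single_apply]
          field_simp
          ring
        all_goals simp [e, Pi.single_apply, h2, h3]
    obtain ⟨g, hg, hgφ⟩ := S.exists_pair hQ h2 (by omega) (x := x) (y := e d)
      (by rw [hx]; exact one_ne_zero) (by rw [hx, e_dot_self]) (by rw [dot_e, hxd])
    refine ⟨g, hg, fun hmem => ?_⟩
    obtain ⟨j, s, hj⟩ := S.mono_of_stab hmem.1 a
    rw [hgφ, LinearEquiv.mul_apply, R_of_ortho (e_dot_ne hda), R_unit hx, dot_e] at hj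
    have hb' := congrFun hj b
    have hc' := congrFun hj c
    simp only [Pi.sub_apply, Pi.smul_apply, smul_eq_mul, e_ne (Ne.symm hab), e_ne (Ne.symm hac),
      zero_sub] at hb' hc'
    by_cases hjb : b = j
    · rw [e_ne (fun h => hbc (hjb.trans h.symm)), mul_zero, neg_eq_zero] at hc'
      exact mul_ne_zero (mul_ne_zero h2 ha) hc hc'
    · rw [e_ne hjb, mul_zero, neg_eq_zero] at hb'
      exact mul_ne_zero (mul_ne_zero h2 ha) hb hb'
  -- every unit vector is paired
  have hC := S.ctx hQ h2 hn hD hHM hMK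
  have hall : ∀ v : Fin t → F, v ⬝ᵥ v = 1 → InY (M.map S.φ) v := fun v hv =>
    hC.all_units rfl hp2 ⟨g, hgM, rfl⟩
      (fun hm => hgH ⟨S.mem_stab_of_mono hD hm, hMK hgM⟩) hv
  -- orthogonal pairs of any norm
  have hpair : ∀ x y : Fin t → F, x ⬝ᵥ x ≠ 0 → y ⬝ᵥ y = x ⬝ᵥ x → x ⬝ᵥ y = 0 →
      R x * R y ∈ M.map S.φ := by
    intro x y hx hxy ho
    obtain ⟨α, β, hαβ⟩ := exists_norm h2 (neg_ne_zero.mpr (one_ne_zero (α := F))) (x ⬝ᵥ x)⁻¹
    have hu1 : (α • x + β • y) ⬝ᵥ (α • x + β • y) = 1 := by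
      simp [add_dotProduct, dotProduct_add, smul_dotProduct, dotProduct_smul, hxy, ho,
        dotProduct_comm y x]
      linear_combination (x ⬝ᵥ x) * hαβ + mul_inv_cancel₀ hx
    have hu2 : ((-β) • x + α • y) ⬝ᵥ ((-β) • x + α • y) = 1 := by
      simp [add_dotProduct, dotProduct_add, smul_dotProduct, dotProduct_smul, hxy, ho,
        dotProduct_comm y x]
      linear_combination (x ⬝ᵥ x) * hαβ + mul_inv_cancel₀ hx
    have hu12 : (α • x + β • y) ⬝ᵥ ((-β) • x + α • y) = 0 := by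
      simp [add_dotProduct, dotProduct_add, smul_dotProduct, dotProduct_smul, hxy, ho,
        dotProduct_comm y x]
      ring
    have key : R (α • x + β • y) * R ((-β) • x + α • y) = R x * R y := LinearEquiv.ext fun v => by
      rw [pair_dev hu1 hu2 hu12, LinearEquiv.mul_apply, R_apply, R_apply, dotProduct_sub,
        dotProduct_smul, ho, smul_zero, sub_zero, hxy]
      simp only [add_dotProduct, smul_dotProduct, smul_eq_mul]
      match_scalars <;> field_simp
      · linear_combination -(x ⬝ᵥ v) * ((x ⬝ᵥ x) * hαβ + mul_inv_cancel₀ hx)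
      · linear_combination -(y ⬝ᵥ v) * ((x ⬝ᵥ x) * hαβ + mul_inv_cancel₀ hx)
    rw [← key]
    exact hC.inY_pair (hall _ hu1) (hall _ hu2)
  have htop : Cfsg.Geo.IsNondegenerateOn (QuadraticMap.polar Q) (⊤ : Submodule F (ι → F)) :=
    fun w _ hw => ⟨(hQ.nondegenerate w hw).1.imp fun x hx => ⟨trivial, hx⟩,
      (hQ.nondegenerate w hw).2.imp fun x hx => ⟨trivial, hx⟩⟩
  have hz : ∀ u w : ι → F, ∀ δ : F, ∃ z, QuadraticMap.polar Q z u = 0 ∧
      QuadraticMap.polar Q z w = 0 ∧ Q z = δ := fun u w δ => by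
    obtain ⟨z, -, hzV, hzQ⟩ := exists_value hQ htop
      (by rw [finrank_top, Module.finrank_fintype_fun_eq_card]; omega)
      (V := Submodule.span F {u, w}) le_top (finrank_pair_le u w) δ
    exact ⟨z, (mem_perp_pair (hQ := hQ) hzV).1, (mem_perp_pair (hQ := hQ) hzV).2, hzQ⟩
  -- Siegel elements with anisotropic second vector
  have hsieg : ∀ u w : ι → F, Q u = 0 → QuadraticMap.polar Q w u = 0 → Q w ≠ 0 →
      sieg Q u w ∈ M := by
    intro u w hu hwu hw
    obtain ⟨z, hzu, hzw, hzQ⟩ := hz u w (Q w)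
    set U := S.T u with hU
    set W := S.T w with hW
    set Z := S.T z with hZ
    have hk : (2 : F) * S.c ≠ 0 := mul_ne_zero h2 S.hc
    have hUU : U ⬝ᵥ U = 0 := (mul_eq_zero.mp ((S.norm u).symm.trans hu)).resolve_left S.hc
    have hWU : W ⬝ᵥ U = 0 := (mul_eq_zero.mp ((S.polar w u).symm.trans hwu)).resolve_left hk
    have hZU : Z ⬝ᵥ U = 0 := (mul_eq_zero.mp ((S.polar z u).symm.trans hzu)).resolve_left hk
    have hZW : Z ⬝ᵥ W = 0 := (mul_eq_zero.mp ((S.polar z w).symm.trans hzw)).resolve_left hk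
    have hν : W ⬝ᵥ W ≠ 0 := fun h0 => hw (by rw [S.norm, ← hW, h0, mul_zero])
    have hZZ : Z ⬝ᵥ Z = W ⬝ᵥ W := mul_left_cancel₀ S.hc (by
      rw [hZ, hW, ← S.norm, ← S.norm, hzQ])
    set A := W + (-(S.c * (W ⬝ᵥ W))) • U with hA
    have hAA : A ⬝ᵥ A = W ⬝ᵥ W := by
      simp [hA, add_dotProduct, dotProduct_add, smul_dotProduct, dotProduct_smul, hUU, hWU,
        dotProduct_comm U W]
    have hAZ : A ⬝ᵥ Z = 0 := by
      rw [hA, add_dotProduct, smul_dotProduct, dotProduct_comm W Z, dotProduct_comm U Z, hZW, hZU]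
      simp
    have h1 := hpair A Z (hAA ▸ hν) (hZZ.trans hAA.symm) hAZ
    have h3 := hpair Z W (hZZ ▸ hν) hZZ.symm hZW
    have h4 := (M.map S.φ).mul_mem h1 h3
    rw [mul_assoc, ← mul_assoc (R Z), R_mul_self, one_mul] at h4
    obtain ⟨g', hg', hg'φ⟩ := h4
    have : g' = sieg Q u w := S.φ_injective (hg'φ.trans (LinearEquiv.ext fun v => by
      rw [φ_apply, sieg_mulVec hQ hu hwu, map_add, map_add, map_smul, map_smul, S.polar, S.polar,
        S.norm, LinearEquiv.apply_symm_apply, ← hU, ← hW, LinearEquiv.mul_apply, R_apply, R_apply,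
        hAA]
      have hAW : A ⬝ᵥ W = W ⬝ᵥ W := by
        rw [hA, add_dotProduct, smul_dotProduct, dotProduct_comm U W, hWU]; simp
      have hAv : A ⬝ᵥ v = W ⬝ᵥ v + -(S.c * (W ⬝ᵥ W)) * (U ⬝ᵥ v) := by
        rw [hA, add_dotProduct, smul_dotProduct, smul_eq_mul]
      rw [dotProduct_sub, dotProduct_smul, hAW, hAv, smul_eq_mul, dotProduct_comm v U,
        dotProduct_comm v W, hA]
      match_scalars <;> field_simp <;> ring))
    exact this ▸ hg'
  refine omega_le hQ (by omega) fun u w hu hwu => ?_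
  by_cases hw : Q w = 0
  · obtain ⟨z, hzu, hzw, hzQ⟩ := hz u w S.c
    have hb := hQ.polar_bilinear
    have e1 : w = (w + z) + (-1 : F) • z := by module
    rw [e1, sieg_add_right hQ hu (by rw [hb.add_left, hwu, hzu, add_zero])
      (by rw [hb.smul_left, hzu, mul_zero])]
    refine M.mul_mem (hsieg _ _ hu (by rw [hb.add_left, hwu, hzu, add_zero]) ?_)
      (hsieg _ _ hu (by rw [hb.smul_left, hzu, mul_zero]) ?_)
    · rw [Q_add (Q := Q), hw, hzQ, B_comm, hzw, zero_add, add_zero]; exact S.hc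
    · rw [hQ.smul, hzQ]
      exact mul_ne_zero (pow_ne_zero _ (neg_ne_zero.mpr one_ne_zero)) S.hc
  · exact hsieg u w hu hwu hw

end Std

end Cfsg.Agent.TableRelax.Mono.Transfer
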